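import Cfsg.Agent.H95.LSx.Tits
import Cfsg.Agent.H64.ChevField
import Cfsg.Agent.S1054

/-!
# The Tits group and `F₄(2)`: degree at least `24` in characteristic `≠ 2` (helper648, task 6105)

`card_le_eig` : the weight-orbit bound inside the `-1`-eigenspace of `c`.
`three_le` : if moreover some `x i₀` is conjugate to `z`, then `3 * 2 ^ k ≤ 2 * n`.
-/

set_option autoImplicit false

universe u v w

namespace Cfsg.Agent.H648.EPV

open Module Subgroup Cfsg.Agent.H912.Bd
open scoped commutatorElement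

section Rep

variable {K : Type*} [Field K] {V : Type*} [AddCommGroup V] [Module K V] [FiniteDimensional K V]

theorem sum_finrank_le' {ι : Type*} [Fintype ι] {p : ι → Submodule K V} (hp : iSupIndep p) {E : Submodule K V}
    (hE : ∀ i, p i ≤ E) : ∑ i, finrank K (p i) ≤ finrank K E := by
  classical
  have h1 := hp.dfinsupp_lsum_injective
  have h3 : finrank K (Π₀ i, p i) = ∑ i, finrank K (p i) := Module.finrank_directSum K (fun i => ↥(p i))
  rw [← h3, ← LinearMap.finrank_range_of_inj h1]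
  apply Submodule.finrank_mono
  rw [← Submodule.iSup_eq_range_dfinsupp_lsum]
  exact iSup_le hE

variable {L : Type*} [Group L] (ρ : L →* Module.End K V) {A : Subgroup L}
  (hA : ∀ a ∈ A, ∀ b ∈ A, a * b = b * a) {N : ℕ} (hN : (N : K) ≠ 0) (hAN : ∀ a ∈ A, a ^ N = 1)

include hA hN hAN in
/-- the weight-orbit bound in the `-1`-eigenspace -/
theorem card_le_eig [IsAlgClosed K] {c : L} (hcA : c ∈ A) (hc : ρ c ≠ 1) (hcc : c * c = 1) (S : Finset L)
    (hS : ∀ s ∈ S, ∀ a ∈ A, s * a * s⁻¹ ∈ A) (hsc : ∀ s ∈ S, s * c * s⁻¹ = c)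
    (hSc : ∀ s ∈ S, ∀ t ∈ S, s ≠ t → ∃ a ∈ A, (s * a * s⁻¹) * (t * a * t⁻¹)⁻¹ = c) :
    S.card ≤ finrank K ((ρ c).eigenspace (-1)) := by
  obtain ⟨χ, hχ, hχc⟩ := exists_wt ρ hA hN hAN (c := ⟨c, hcA⟩) hc
  have hχ1 : χ ⟨c, hcA⟩ = -1 := by
    have h1 := wt_mul ρ hχ ⟨c, hcA⟩ ⟨c, hcA⟩
    have h2 : (⟨c, hcA⟩ * ⟨c, hcA⟩ : A) = 1 := Subtype.ext hcc
    rw [h2, wt_one ρ hχ] at h1
    rcases mul_self_eq_one_iff.1 h1.symm with h | h
    · exact absurd h hχc
    · exact h
  let tw : S → (A → K) := fun s a => χ ⟨s * a * (s : L)⁻¹, hS s s.2 a a.2⟩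
  have hinj : Function.Injective tw := by
    intro s t hst
    by_contra hne
    obtain ⟨a, ha, hac⟩ := hSc s s.2 t t.2 (fun h => hne (Subtype.ext h))
    apply hχc
    have h1 : χ ⟨s * a * (s : L)⁻¹, hS s s.2 a ha⟩ = χ ⟨t * a * (t : L)⁻¹, hS t t.2 a ha⟩ :=
      congrFun hst ⟨a, ha⟩
    have h2 : (⟨s * a * (s : L)⁻¹, hS s s.2 a ha⟩ : A) = ⟨c, hcA⟩ * ⟨t * a * (t : L)⁻¹, hS t t.2 a ha⟩ := by
      apply Subtype.ext
      change (s : L) * a * (s : L)⁻¹ = c * (t * a * (t : L)⁻¹)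
      rw [← hac]
      group
    rw [h2, wt_mul ρ hχ] at h1
    have h3 : χ ⟨t * a * (t : L)⁻¹, hS t t.2 a ha⟩ ≠ 0 := by
      intro h0
      have h4 := wt_mul ρ hχ ⟨t * a * (t : L)⁻¹, hS t t.2 a ha⟩ (⟨t * a * (t : L)⁻¹, hS t t.2 a ha⟩)⁻¹
      rw [mul_inv_cancel, wt_one ρ hχ, h0, zero_mul] at h4
      exact one_ne_zero h4
    exact mul_right_cancel₀ h3 (by rw [h1, one_mul])
  have hind : iSupIndep (fun s : S => wt ρ A (tw s)) := (indep_wt ρ hA hN hAN).comp hinj
  have hpos : 1 ≤ finrank K (wt ρ A χ) := by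
    have : Nontrivial (wt ρ A χ) := Submodule.nontrivial_iff_ne_bot.2 hχ
    exact finrank_pos
  calc S.card ≤ S.card * finrank K (wt ρ A χ) := Nat.le_mul_of_pos_right _ hpos
    _ = ∑ _s : S, finrank K (wt ρ A χ) := by
        rw [Finset.sum_const, Finset.card_univ, Fintype.card_coe, smul_eq_mul]
    _ ≤ ∑ s : S, finrank K (wt ρ A (tw s)) := Finset.sum_le_sum fun s _ => finrank_wt_le ρ (hS s s.2)
    _ ≤ finrank K ((ρ c).eigenspace (-1)) := by
        refine sum_finrank_le' hind fun s => ?_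
        intro v hv
        rw [Module.End.mem_eigenspace_iff]
        have h1 := mem_wt.1 hv ⟨c, hcA⟩
        have h2 : tw s ⟨c, hcA⟩ = -1 := by
          show χ ⟨s * c * (s : L)⁻¹, _⟩ = -1
          rw [← hχ1]
          congr 1
          exact Subtype.ext (hsc s s.2)
        rw [h2] at h1
        exact h1

/-- the eigenspaces of conjugate elements -/
theorem finrank_eig_conj {b c g : L} (hg : g * c * g⁻¹ = b) (μ : K) :
    finrank K ((ρ c).eigenspace μ) ≤ finrank K ((ρ b).eigenspace μ) := by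
  rw [(Submodule.equivMapOfInjective (ρ g) (rho_injective ρ g) ((ρ c).eigenspace μ)).finrank_eq]
  apply Submodule.finrank_mono
  rintro _ ⟨v, hv, rfl⟩
  have hv' : ρ c v = μ • v := Module.End.mem_eigenspace_iff.1 hv
  rw [Module.End.mem_eigenspace_iff]
  have h2 : ρ b (ρ g v) = ρ g (ρ c v) := by
    rw [← Module.End.mul_apply, ← Module.End.mul_apply, ← map_mul, ← map_mul, ← hg]
    congr 2
    group
  rw [h2, hv', map_smul]

/-- **two conjugate commuting involutions**: `c ~ b`, `s` centralises `c` and `b ^ s = b c`: the dimension is at least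
`3 / 2` of the dimension of the `-1`-eigenspace. -/
theorem three_half (h2 : (2 : K) ≠ 0) {b c g s : L} (hg : g * c * g⁻¹ = b) (hsc : s * c * s⁻¹ = c)
    (hsb : s * b * s⁻¹ = b * c) :
    3 * finrank K ((ρ c).eigenspace (-1)) ≤ 2 * finrank K V := by
  set P : Submodule K V := (ρ c).eigenspace (-1) with hP
  set R : Submodule K V := (ρ b).eigenspace (-1) with hR
  have h1 : finrank K P ≤ finrank K R := finrank_eig_conj ρ hg (-1)
  -- `s` moves `P ⊓ R` to a disjoint subspace of `P`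
  have h3 : (P ⊓ R).map (ρ s) ≤ P := by
    rintro _ ⟨v, ⟨hv, -⟩, rfl⟩
    have hv' : ρ c v = (-1 : K) • v := Module.End.mem_eigenspace_iff.1 hv
    rw [hP, Module.End.mem_eigenspace_iff]
    have h2 : ρ c (ρ s v) = ρ s (ρ c v) := by
      rw [← Module.End.mul_apply, ← Module.End.mul_apply, ← map_mul, ← map_mul, mul_inv_eq_iff_eq_mul.1 hsc]
    rw [h2, hv', map_smul]
  have h4 : (P ⊓ R) ⊓ (P ⊓ R).map (ρ s) = ⊥ := by
    rw [eq_bot_iff]
    rintro _ ⟨⟨-, hv⟩, w, ⟨hw1, hw2⟩, rfl⟩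
    have e1 : ρ b (ρ s w) = (-1 : K) • ρ s w := Module.End.mem_eigenspace_iff.1 hv
    have e2 : ρ c w = (-1 : K) • w := Module.End.mem_eigenspace_iff.1 hw1
    have e3 : ρ b w = (-1 : K) • w := Module.End.mem_eigenspace_iff.1 hw2
    have e4 : ρ s (ρ b w) = ρ b (ρ c (ρ s w)) := by
      rw [← Module.End.mul_apply, ← Module.End.mul_apply, ← Module.End.mul_apply, ← map_mul, ← map_mul, ← map_mul,
        mul_inv_eq_iff_eq_mul.1 hsb]
    have e5 : ρ c (ρ s w) = ρ s (ρ c w) := by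
      rw [← Module.End.mul_apply, ← Module.End.mul_apply, ← map_mul, ← map_mul, mul_inv_eq_iff_eq_mul.1 hsc]
    rw [e3, e5, e2, map_smul, map_smul, e1] at e4
    have e6 : (2 : K) • ρ s w = 0 := by
      simp only [neg_smul, one_smul, neg_neg] at e4
      rw [two_smul]
      nth_rewrite 1 [← e4]
      exact neg_add_cancel _
    rw [Submodule.mem_bot]
    exact (smul_eq_zero.1 e6).resolve_left h2
  have h5 : 2 * finrank K ↥(P ⊓ R) ≤ finrank K P := by
    have e1 : finrank K ↥((P ⊓ R).map (ρ s)) = finrank K ↥(P ⊓ R) :=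
      (Submodule.equivMapOfInjective (ρ s) (rho_injective ρ s) (P ⊓ R)).finrank_eq.symm
    have e2 := Submodule.finrank_sup_add_finrank_inf_eq (P ⊓ R) ((P ⊓ R).map (ρ s))
    rw [h4, finrank_bot, e1] at e2
    have e3 : finrank K ↥((P ⊓ R) ⊔ (P ⊓ R).map (ρ s)) ≤ finrank K P :=
      Submodule.finrank_mono (sup_le inf_le_left h3)
    omega
  have h6 := Submodule.finrank_sup_add_finrank_inf_eq P R
  have h7 : finrank K ↥(P ⊔ R) ≤ finrank K V := Submodule.finrank_le _
  omega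

end Rep

/-- **Weight-orbit bound for a transvection configuration in which some `x i₀` is conjugate to `z`.** -/
theorem three_le {F : Type u} [Field F] {n : ℕ} {T : Type v} [Group T] (h : PR F n 2 T) (hF : ((2 : ℕ) : F) ≠ 0)
    {ι : Type} [Fintype ι] [DecidableEq ι] [Finite T] {z : T} (hz1 : z ≠ 1) (hz : z * z = 1) (x : ι → T)
    (hx : ∀ i, x i * x i = 1) (hxz : ∀ i, x i * z = z * x i) (hxx : ∀ i j, x i * x j = x j * x i)
    (s : (ι → Bool) → T) (hsz : ∀ a, s a * z * (s a)⁻¹ = z)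
    (hsx : ∀ a i, s a * x i * (s a)⁻¹ = if a i then x i * z else x i) (i₀ : ι) (g : T) (hg : g * z * g⁻¹ = x i₀) :
    3 * 2 ^ Fintype.card ι ≤ 2 * n := by
  classical
  let R : Set T := insert z (Set.range x)
  let E : Subgroup T := closure R
  have hR : ∀ a ∈ R, ∀ b ∈ R, a * b = b * a := by
    rintro _ (rfl | ⟨i, rfl⟩) _ (rfl | ⟨j, rfl⟩)
    · rfl
    · exact (hxz j).symm
    · exact hxz i
    · exact hxx i j
  have hE : ∀ a ∈ E, ∀ b ∈ E, a * b = b * a := by
    intro a ha b hb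
    have h1 : E ≤ centralizer (E : Set T) := by
      refine (closure_le_centralizer_centralizer R).trans ?_
      apply centralizer_le
      intro y hy
      have h2 : E ≤ centralizer R := by
        rw [closure_le]
        intro c hc
        exact mem_centralizer_iff.2 fun d hd => hR d hd c hc
      exact h2 hy
    exact (mem_centralizer_iff.1 (h1 ha) b hb).symm
  have hE2 : ∀ a ∈ E, a * a = 1 := by
    intro a ha
    induction ha using closure_induction with
    | mem a ha =>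
      rcases ha with rfl | ⟨i, rfl⟩
      · exact hz
      · exact hx i
    | one => exact mul_one 1
    | mul a b ha hb iha ihb =>
      rw [mul_assoc, ← mul_assoc b a b, hE b hb a ha, mul_assoc a b b, ihb, mul_one, iha]
    | inv a ha iha => rw [← mul_inv_rev, iha, inv_one]
  have hz' : z⁻¹ = z := inv_eq_of_mul_eq_one_left hz
  have hzE : z ∈ E := subset_closure (Set.mem_insert _ _)
  have hxE : ∀ i, x i ∈ E := fun i => subset_closure (Set.mem_insert_of_mem _ ⟨i, rfl⟩)
  have hinj : Function.Injective s := by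
    intro a b hab
    funext i
    have h1 := hsx a i
    rw [hab, hsx b i] at h1
    by_contra hne
    rcases Bool.eq_false_or_eq_true (a i) with ha | ha <;> rcases Bool.eq_false_or_eq_true (b i) with hb | hb <;>
      rw [ha, hb] at h1 hne
    · exact hne rfl
    · exact hz1 (mul_eq_left.1 h1.symm)
    · exact hz1 (mul_eq_left.1 h1)
    · exact hne rfl
  have hEr : IsPGroup 2 E := by
    intro a
    refine ⟨1, ?_⟩
    rw [pow_one, pow_two]
    exact Subtype.ext (hE2 a a.2)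
  have hsE : ∀ a, ∀ e ∈ E, s a * e * (s a)⁻¹ ∈ E := by
    intro a e he
    have h1 : E ≤ E.comap (MulAut.conj (s a)).toMonoidHom := by
      show closure R ≤ _
      rw [closure_le]
      rintro y (hy | ⟨i, rfl⟩)
      · show s a * y * (s a)⁻¹ ∈ E
        rw [hy, hsz]; exact hzE
      · show s a * x i * (s a)⁻¹ ∈ E
        rw [hsx]
        split_ifs
        · exact mul_mem (hxE i) hzE
        · exact hxE i
    exact h1 he
  have hSc : ∀ a b : ι → Bool, a ≠ b → ∃ e ∈ E, (s a * e * (s a)⁻¹) * (s b * e * (s b)⁻¹)⁻¹ = z := by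
    intro a b hne
    obtain ⟨i, hi⟩ : ∃ i, a i ≠ b i := by
      by_contra hcon
      push Not at hcon
      exact hne (funext hcon)
    refine ⟨x i, hxE i, ?_⟩
    rw [hsx, hsx]
    rcases Bool.eq_false_or_eq_true (a i) with ha | ha <;> rcases Bool.eq_false_or_eq_true (b i) with hb | hb <;>
      rw [ha, hb] at hi ⊢
    · exact absurd rfl hi
    · simp only [if_true, Bool.false_eq_true, if_false]
      rw [hxz, mul_inv_cancel_right]
    · simp only [if_true, Bool.false_eq_true, if_false]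
      rw [mul_inv_rev, hz', ← mul_assoc, hxz, mul_assoc, mul_inv_cancel, mul_one]
    · exact absurd rfl hi
  obtain ⟨L, _, π, ρ, hπ, hc, hcop, hρ⟩ := h
  obtain ⟨A, hA, hAc, ⟨N, hN, hAN⟩, hlift, hnorm⟩ := exists_data (F := F) hπ hc hcop Nat.prime_two hF hE hEr
  obtain ⟨c, hcA, hce⟩ := hlift z hzE
  obtain ⟨b, hbA, hbe⟩ := hlift (x i₀) (hxE i₀)
  obtain ⟨σ, hσ⟩ := hπ.hasRightInverse
  have hσinj : Function.Injective σ := hσ.injective
  obtain ⟨-, kc, hkc⟩ := (hA c).1 hcA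
  obtain ⟨-, kb, hkb⟩ := (hA b).1 hbA
  have hck : repK ρ c ≠ 1 := by
    intro h1
    have h2 : c ∈ ρ.ker := eq_one_of_repK h1
    have h3 := hρ h2
    rw [MonoidHom.mem_ker, hce] at h3
    exact hz1 h3
  have hcc : c * c = 1 := by
    have h1 := lift_unique hc hcop (x := c) (y := c⁻¹) (by rw [map_inv, hce, hz']) hkc
      (l := kc) (by rw [inv_pow, hkc, inv_one])
    nth_rewrite 2 [h1]
    exact mul_inv_cancel c
  have hle := card_le_eig (repK ρ) hAc hN hAN hcA hck hcc ((Finset.univ.image s).image σ) (by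
    intro t ht a ha
    obtain ⟨t', ht', rfl⟩ := Finset.mem_image.1 ht
    obtain ⟨e, -, rfl⟩ := Finset.mem_image.1 ht'
    exact hnorm (σ (s e)) (by rw [hσ (s e)]; exact hsE e) a ha) (by
    intro t ht
    obtain ⟨t', ht', rfl⟩ := Finset.mem_image.1 ht
    obtain ⟨e, -, rfl⟩ := Finset.mem_image.1 ht'
    refine lift_unique hc hcop (k := kc) (l := kc) ?_ ?_ hkc
    · rw [map_mul, map_mul, map_inv, hσ (s e), hce, hsz]
    · rw [conj_pow, hkc, mul_one, mul_inv_cancel]) (by
    intro t ht t' ht' hst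
    obtain ⟨u, hu, rfl⟩ := Finset.mem_image.1 ht
    obtain ⟨u', hu', rfl⟩ := Finset.mem_image.1 ht'
    obtain ⟨a, -, rfl⟩ := Finset.mem_image.1 hu
    obtain ⟨a', -, rfl⟩ := Finset.mem_image.1 hu'
    obtain ⟨e, he, hee⟩ := hSc a a' (fun h => hst (by rw [h]))
    obtain ⟨y, hy, hye⟩ := hlift e he
    refine ⟨y, hy, ?_⟩
    have h1 : σ (s a) * y * (σ (s a))⁻¹ ∈ A := hnorm (σ (s a)) (by rw [hσ (s a)]; exact hsE a) y hy
    have h2 : σ (s a') * y * (σ (s a'))⁻¹ ∈ A := hnorm (σ (s a')) (by rw [hσ (s a')]; exact hsE a') y hy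
    obtain ⟨-, k, hk⟩ := (hA _).1 (A.mul_mem h1 (A.inv_mem h2))
    refine lift_unique hc hcop (l := kc) ?_ hk hkc
    simp only [map_mul, map_inv, hσ (s a), hσ (s a'), hye, hce]
    exact hee)
  rw [Finset.card_image_of_injective _ hσinj, Finset.card_image_of_injective _ hinj, Finset.card_univ,
    Fintype.card_fun, Fintype.card_bool] at hle
  have h20 : (2 : AlgebraicClosure F) ≠ 0 := by
    intro h0
    apply hF
    apply (algebraMap F (AlgebraicClosure F)).injective
    rw [map_natCast, map_zero]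
    exact_mod_cast h0
  let a₀ : ι → Bool := fun _ => true
  have h3 := three_half (repK ρ) h20 (b := b) (c := c) (g := σ g) (s := σ (s a₀)) (by
      refine lift_unique hc hcop (k := kc) (l := kb) ?_ ?_ hkb
      · rw [map_mul, map_mul, map_inv, hσ g, hce, hbe, hg]
      · rw [conj_pow, hkc, mul_one, mul_inv_cancel]) (by
      refine lift_unique hc hcop (k := kc) (l := kc) ?_ ?_ hkc
      · rw [map_mul, map_mul, map_inv, hσ (s a₀), hce, hsz]
      · rw [conj_pow, hkc, mul_one, mul_inv_cancel]) (by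
      obtain ⟨-, k, hk⟩ := (hA _).1 (A.mul_mem hbA hcA)
      refine lift_unique hc hcop (k := kb) (l := k) ?_ ?_ hk
      · rw [map_mul, map_mul, map_mul, map_inv, hσ (s a₀), hce, hbe, hsx]
        rfl
      · rw [conj_pow, hkb, mul_one, mul_inv_cancel])
  rw [Module.finrank_fintype_fun_eq_card, Fintype.card_fin] at h3
  omega

/-! ### The Tits group -/

open Cfsg.Agent.H203.LS Cfsg.Agent.KFacts.TwF4 Cfsg.Agent.KFacts.TwF4.Inst Cfsg.Agent.H95.LSx Cfsg.Agent.H95.LSx.Tits

section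

variable {F : Type u} [Field F] {σ : F →+* F} {G : Type u} [Group G] (S : Sys σ G) (h2 : (2 : F) = 0)

/-- the element which moves `e 1 0 1` to `e 0 0 1` -/
def gg (S : Sys σ G) : G := (S.o 2 1)⁻¹ * S.o 6 1

theorem gg_mem : gg S ∈ commutator G := mul_mem (inv_mem (o_mem S 2)) (o_mem S 6)

include h2 in
theorem gg_conj : gg S * S.e 1 0 1 * (gg S)⁻¹ = xx S 2 := by
  have h1 : S.o 6 1 * S.e 1 0 1 * (S.o 6 1)⁻¹ = S.e 1 0 1 * S.e 0 0 1 := by
    have h := S.o_e3 6 1 0 1
    rw [mul_zero, TwF4.e_zero, mul_one, map_zero, mul_zero, TwF4.o_zero, mul_one, mul_zero, zero_add,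
      mul_one] at h
    have h3 := S.o_e2 6 1 0 1
    rw [mul_zero, TwF4.e_zero, mul_one] at h3
    exact cjB h h3
  have h3 : S.o 2 1 * S.e 0 0 1 * (S.o 2 1)⁻¹ = S.e 0 0 1 * S.e 1 0 1 := by
    have h := S.e_o2 0 0 1 1
    rw [zero_mul, zero_mul, zero_mul, map_zero, zero_mul, zero_add, one_mul, TwF4.o_zero, mul_one, TwF4.e_zero,
      mul_one, zero_add, zero_add] at h
    have h3 := S.e_o1 1 0 1 1
    rw [zero_mul, TwF4.e_zero, mul_one] at h3
    exact cjA h h3.symm (e0_sq S h2 1)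
  have h4 : S.e 1 0 1 * S.e 0 0 1 = S.e 0 0 1 * S.e 1 0 1 := (xx_z S 2).symm
  show (S.o 2 1)⁻¹ * S.o 6 1 * S.e 1 0 1 * ((S.o 2 1)⁻¹ * S.o 6 1)⁻¹ = S.e 0 0 1
  have h5 : (S.o 2 1)⁻¹ * S.o 6 1 * S.e 1 0 1 * ((S.o 2 1)⁻¹ * S.o 6 1)⁻¹ =
      (S.o 2 1)⁻¹ * (S.o 6 1 * S.e 1 0 1 * (S.o 6 1)⁻¹) * S.o 2 1 := by group
  rw [h5, h1, h4, ← h3]
  group

include S h2 in
/-- **The bound**, abstract version. -/
theorem bd24_sys {k : Type w} [Field k] (hk : ((2 : ℕ) : k) ≠ 0) [Finite G] : Bd k 2 24 ↥(commutator G) := by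
  intro n hn
  have hzG : S.e 1 0 1 ≠ 1 := by
    intro h
    rw [← TwF4.e_zero S 1] at h
    exact one_ne_zero (S.injE 1 0 1 0 0 h).2
  let z : ↥(commutator G) := ⟨S.e 1 0 1, e0_mem S 1⟩
  let x : Fin 4 → ↥(commutator G) := fun i => ⟨xx S i, xx_mem S i⟩
  let y : Fin 4 → ↥(commutator G) := fun i => ⟨yy S i, yy_mem S h2 i⟩
  let c : ∀ (i : Fin 4) (b : Bool), ↥(commutator G) →* ↥(commutator G) :=
    fun i b => (MulAut.conj (if b then y i else 1)).toMonoidHom
  have hcz : ∀ i b, c i b z = z := by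
    intro i b
    cases b
    · show 1 * z * 1⁻¹ = z
      rw [one_mul, inv_one, mul_one]
    · exact Subtype.ext (yy_z S i)
  have hcx : ∀ i b j, i ≠ j → c i b (x j) = x j := by
    intro i b j hij
    cases b
    · show 1 * x j * 1⁻¹ = x j
      rw [one_mul, inv_one, mul_one]
    · refine Subtype.ext ((yy_xx S h2 i j).trans ?_)
      rw [if_neg hij]
  have hcc : ∀ i b, c i b (x i) = if b then x i * z else x i := by
    intro i b
    cases b
    · show 1 * x i * 1⁻¹ = x i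
      rw [one_mul, inv_one, mul_one]
    · refine Subtype.ext ((yy_xx S h2 i i).trans ?_)
      rw [if_pos rfl]; rfl
  have hcxz : ∀ (i : Fin 4) (b : Bool) (j : Fin 4) (b' : Bool), i ≠ j → c i b (if b' then x j * z else x j) = if b' then x j * z else x j := by
    intro i b j b' hij
    cases b'
    · exact hcx i b j hij
    · show c i b (x j * z) = x j * z
      rw [map_mul, hcx i b j hij, hcz]
  have key := three_le (ι := Fin 4) hn hk (z := z) (fun h => hzG (congrArg Subtype.val h))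
    (Subtype.ext (e0_sq S h2 1)) x (fun i => Subtype.ext (xx_sq S h2 i)) (fun i => Subtype.ext (xx_z S i))
    (fun i j => Subtype.ext (xx_xx S i j))
    (fun a => (if a 0 then y 0 else 1) * ((if a 1 then y 1 else 1) * ((if a 2 then y 2 else 1) *
      (if a 3 then y 3 else 1))))
    (by
      intro a
      have h1 : ∀ g : ↥(commutator G), (if a 0 then y 0 else 1) * ((if a 1 then y 1 else 1) *
        ((if a 2 then y 2 else 1) * (if a 3 then y 3 else 1))) * g * ((if a 0 then y 0 else 1) *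
        ((if a 1 then y 1 else 1) * ((if a 2 then y 2 else 1) * (if a 3 then y 3 else 1))))⁻¹ =
        c 0 (a 0) (c 1 (a 1) (c 2 (a 2) (c 3 (a 3) g))) := by
        intro g
        show _ = (if a 0 then y 0 else 1) * ((if a 1 then y 1 else 1) * ((if a 2 then y 2 else 1) *
          ((if a 3 then y 3 else 1) * g * (if a 3 then y 3 else 1)⁻¹) * (if a 2 then y 2 else 1)⁻¹) *
          (if a 1 then y 1 else 1)⁻¹) * (if a 0 then y 0 else 1)⁻¹
        group
      rw [h1, hcz, hcz, hcz, hcz])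
    (by
      intro a i
      have h1 : ∀ g : ↥(commutator G), (if a 0 then y 0 else 1) * ((if a 1 then y 1 else 1) *
        ((if a 2 then y 2 else 1) * (if a 3 then y 3 else 1))) * g * ((if a 0 then y 0 else 1) *
        ((if a 1 then y 1 else 1) * ((if a 2 then y 2 else 1) * (if a 3 then y 3 else 1))))⁻¹ =
        c 0 (a 0) (c 1 (a 1) (c 2 (a 2) (c 3 (a 3) g))) := by
        intro g
        show _ = (if a 0 then y 0 else 1) * ((if a 1 then y 1 else 1) * ((if a 2 then y 2 else 1) *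
          ((if a 3 then y 3 else 1) * g * (if a 3 then y 3 else 1)⁻¹) * (if a 2 then y 2 else 1)⁻¹) *
          (if a 1 then y 1 else 1)⁻¹) * (if a 0 then y 0 else 1)⁻¹
        group
      rw [h1]
      revert i
      rw [Fin.forall_fin_succ, Fin.forall_fin_succ, Fin.forall_fin_two]
      refine ⟨?_, ?_, ?_, ?_⟩
      · rw [hcx 3 _ 0 (by decide), hcx 2 _ 0 (by decide), hcx 1 _ 0 (by decide), hcc]
      · show c 0 (a 0) (c 1 (a 1) (c 2 (a 2) (c 3 (a 3) (x 1)))) = if a 1 then x 1 * z else x 1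
        rw [hcx 3 _ 1 (by decide), hcx 2 _ 1 (by decide), hcc, hcxz 0 _ 1 _ (by decide)]
      · show c 0 (a 0) (c 1 (a 1) (c 2 (a 2) (c 3 (a 3) (x 2)))) = if a 2 then x 2 * z else x 2
        rw [hcx 3 _ 2 (by decide), hcc, hcxz 1 _ 2 _ (by decide), hcxz 0 _ 2 _ (by decide)]
      · show c 0 (a 0) (c 1 (a 1) (c 2 (a 2) (c 3 (a 3) (x 3)))) = if a 3 then x 3 * z else x 3
        rw [hcc, hcxz 2 _ 3 _ (by decide), hcxz 1 _ 3 _ (by decide), hcxz 0 _ 3 _ (by decide)])
    2 ⟨gg S, gg_mem S⟩ (Subtype.ext (gg_conj S h2))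
  rw [Fintype.card_fin] at key
  omega

end

theorem bd24 {k : Type w} [Field k] (hk : ((2 : ℕ) : k) ≠ 0) : Bd k 2 24 Cfsg.Lie.TitsGroup := by
  obtain ⟨φ, hφ⟩ := Cfsg.Agent.ChevalleyStructure.TwF4.TwistedFix.exists_rln (K := ZMod 2) (m := 0) (ZMod.card 2)
  rw [pow_zero] at hφ
  have : Finite ↥(Cfsg.Lie.twistedF4 (ZMod 2) 1) := Subtype.finite
  exact bd24_sys (sys hφ) (by exact_mod_cast CharP.cast_eq_zero (ZMod 2) 2) hk

/-- **`LS` for the Tits group**: `24`. -/
theorem ls24_tits : LS.{0, v, w} 2 24 Cfsg.Lie.TitsGroup := by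
  have := Tits.simple_tits
  exact LS.univ (LS.of_bd (NoR.of_one Cfsg.Agent.S2115.result) fun _ _ hk => bd24 hk)

/-! ### `F₄(2)` -/

theorem perfect_of_simple {T : Type u} [Group T] [IsSimpleGroup T] (hT : ¬ IsMulCommutative T) :
    commutator T = ⊤ := by
  rcases IsSimpleGroup.eq_bot_or_eq_top_of_normal (commutator T) inferInstance with h | h
  · exfalso
    apply hT
    refine ⟨⟨fun a b => ?_⟩⟩
    have h1 : ⁅a, b⁆ ∈ commutator T := commutator_mem_commutator (mem_top _) (mem_top _)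
    rw [h, mem_bot, commutatorElement_eq_one_iff_mul_comm] at h1
    exact h1
  · exact h

open Cfsg.Lie in
theorem twF4_le (K : Type u) [Field K] (e : ℕ) : twistedF4 K e ≤ chevF4.group K := by
  have hD : Cfsg.Agent.ChevalleyStructure.Elts.InList chevF4 := by
    unfold Cfsg.Agent.ChevalleyStructure.Elts.InList; simp
  unfold twistedF4 ChevalleyDatum.genSubgroup
  rw [Subgroup.closure_le]
  rintro g ⟨l, -, hg⟩
  rw [(Cfsg.Agent.ChevalleyStructure.Elts.eq_wordG_iff hD g l).2 hg]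
  exact Cfsg.Agent.ChevalleyStructure.Elts.wordG_mem_group hD l

open Cfsg.Lie in
theorem ls24_f4_zmod : LS.{0, v, w} 2 24 ↥(chevF4.group (ZMod 2)) := by
  have := Tits.simple_tits
  have h1 : Finite ↥(Cfsg.Lie.twistedF4 (ZMod 2) 1) := Subtype.finite
  have h2 : Finite (commutator ↥(Cfsg.Lie.twistedF4 (ZMod 2) 1)) := Subtype.finite
  have h3 := (Cfsg.Agent.S1054.result (F := ZMod 2) chevF4 (by simp)).1
  have hT : commutator Cfsg.Lie.TitsGroup = ⊤ := perfect_of_simple Cfsg.Agent.S1074.result.2.2.1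
  refine LS.of_sub (X := Cfsg.Lie.TitsGroup) hT
    ((Subgroup.inclusion (twF4_le (ZMod 2) 1)).comp (commutator ↥(Cfsg.Lie.twistedF4 (ZMod 2) 1)).subtype) ?_ ls24_tits
  exact (Subgroup.inclusion_injective (twF4_le (ZMod 2) 1)).comp
    (Subgroup.subtype_injective (commutator ↥(Cfsg.Lie.twistedF4 (ZMod 2) 1)))

/-- **`LS` for `F₄(2)`**: `24`. -/
theorem ls24_f4_two {K : Type u} [Field K] [Fintype K] (hK : Fintype.card K = 2) :
    LS.{u, v, w} 2 24 ↥(Cfsg.Lie.chevF4.group K) :=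
  LS.congr (Cfsg.Agent.H64.ChevField.groupCongr (FiniteField.ringEquivOfCardEq (by rw [ZMod.card, hK]))
    Cfsg.Lie.chevF4) ls24_f4_zmod

end Cfsg.Agent.H648.EPV
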