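import Cfsg.Agent.H648.EPV.ExcBig
import Cfsg.Agent.H648.EPV.Tits24
import Cfsg.Agent.H414.EPV.ToFin
import Cfsg.Agent.H656.LSTwE6
import Cfsg.Agent.H95.LSx.G23
import Cfsg.Agent.H912.BdChev
import Cfsg.Agent.H743.MeetTits
import Cfsg.Agent.H921.SporTits

/-!
# S3499-V: exceptional socles, the small fields (helper648, task 6105)
-/

set_option autoImplicit false

namespace Cfsg.Agent.H648.EPV

open Subgroup Cfsg.Lie Cfsg.Agent.H284 Cfsg.Agent.H419.EP Cfsg.Agent.H528.EP Cfsg.Agent.H203.LS Cfsg.Agent.H59.EP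
open scoped MatrixGroups

theorem three_le_card {F : Type} [Field F] [Fintype F] (h : ((2 : ℕ) : F) ≠ 0) : 3 ≤ Fintype.card F := by
  have h1 : 1 < Fintype.card F := Fintype.one_lt_card
  by_contra hcon
  have h2 : Fintype.card F = 2 := by omega
  have h3 := FiniteField.cast_card_eq_zero F
  rw [h2] at h3
  exact h h3

variable {Q : Type} [Group Q] [Finite Q] {A : Subgroup Q} {Γ : Subgroup (MulAut Q)} {ι : Type} [Fintype ι]
  [DecidableEq ι] {F : Type} [Field F] [Fintype F] {S P : Subgroup (GL ι F)}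

/-- the kill by UB1 + UB2 for `|Q| ≥ 2 ^ 88` -/
theorem kill_two (hg : TwoGen.{0}) (b : Big A Γ S P) (l : List (ℕ × ℕ)) (h1 : ∀ x ∈ l, x.1.Prime ∧ 0 < x.2)
    (h2 : (l.map Prod.fst).Nodup) (h5 : ∀ x ∈ l, 5 ≤ x.1 → x.2 = 1) {N : ℕ} (hA : Nat.card A = N)
    (hc : N = (l.map fun x => x.1 ^ x.2).prod)
    (hlt : N * (1 + ((l.map fun x => gal x.1 x.2).sum * (N / 6) + N ^ 2 / 60) * (2 * (N / 6))) < 2 ^ 88) : False := by
  have h3 := H831.EPV.index_le_two hg b.simple b.ept (no_ab b) l h1 h2 h5 (by rw [hA, hc])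
  have h4 := H831.EPV.Big.two_pow_le b
  rw [← A.card_mul_index, hA] at h4
  rw [hA] at h3
  exact absurd (h4.trans (Nat.mul_le_mul_left N h3)) (not_le.2 hlt)

/-- `G₂(3)` -/
theorem g2_three (hg : TwoGen.{0}) (b : Big A Γ S P) {K : Type} [Field K] [Fintype K] (hK : Fintype.card K = 3)
    (e : socle P ≃* chevG2.group K) : False := by
  have h0 := g2_dvd b e Nat.prime_three (f := 1) (by rw [hK]; norm_num) (by norm_num)
  have h1 : Nat.card (chevG2.group K) ∣ Nat.card A := (b.hasSoc' e).card_dvd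
  rw [Cfsg.Agent.S1059.result hK] at h1
  have e1 : (3 ^ 1) ^ 6 * ((3 ^ 1) ^ 2 - 1) * ((3 ^ 1) ^ 6 - 1) * (if 3 = 3 then 2 * 1 else 1) = 4245696 * 2 := by
    norm_num
  have e2 : 3 ^ 6 * (3 ^ 2 - 1) * (3 ^ 6 - 1) = 4245696 := by norm_num
  rw [e1] at h0
  rw [e2] at h1
  obtain ⟨k, hk⟩ := h1
  rw [hk] at h0
  have h2 : k ∣ 2 := Nat.dvd_of_mul_dvd_mul_left (by norm_num) h0
  have h3 := Nat.le_of_dvd (by norm_num) h2
  have h4 : k = 1 ∨ k = 2 := by
    rcases Nat.lt_or_ge 0 k with h | h
    · omega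
    · obtain rfl : k = 0 := by omega
      exact absurd h2 (by norm_num)
  rcases h4 with rfl | rfl
  · exact kill_two hg b [(2, 6), (3, 6), (7, 1), (13, 1)] (by decide +kernel) (by decide +kernel) (by decide +kernel)
      (N := 4245696) hk (by decide +kernel) (by decide +kernel)
  · exact kill_two hg b [(2, 7), (3, 6), (7, 1), (13, 1)] (by decide +kernel) (by decide +kernel) (by decide +kernel)
      (N := 8491392) hk (by decide +kernel) (by decide +kernel)

/-- `G₂(4)`, odd dimension: impossible -/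
theorem g2_four_odd (b : Big A Γ S P) {K : Type} [Field K] [Fintype K] (hK : Fintype.card K = 4)
    (e : socle P ≃* chevG2.group K) (hF : ((2 : ℕ) : F) ≠ 0) (h13 : Fintype.card ι = 13) : False := by
  obtain ⟨P', h1, ⟨e'⟩, -⟩ := H414.EPV.exists_fin P b.core.perfect
  have hch : CharP K 2 := charP_of Nat.prime_two (f := 2) (by rw [hK]; norm_num)
  have h2 : H912.Bd.PR F (Fintype.card ι) 2 (chevG2.group K) :=
    H912.Bd.PR.of_perfect P' h1 Nat.prime_two (by rw [h13]; norm_num) (e'.trans e)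
  have h3 := @H912.Bd.bd_g2 K _ _ F _ 2 Nat.prime_two hch hF _ h2
  rw [Nat.card_eq_fintype_card, hK, h13] at h3
  omega

/-- `G₂(s)`, `s ≤ 10` -/
theorem g2_small (hg : TwoGen.{0}) (b : Big A Γ S P) {K : Type} [Field K] [Fintype K] (e : socle P ≃* chevG2.group K)
    {p f : ℕ} (hp : p.Prime) (hK : Fintype.card K = p ^ f) (hF : (p : F) ≠ 0) (h3 : 3 ≤ p ^ f)
    (h11 : p ^ f < 11) : False := by
  have hch := charP_of hp hK
  have hn := b.thirteen
  have h2F : 2 ≤ Fintype.card F := b.two_le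
  have hd : p ^ f ≠ 4 → (p ^ f - 1) * p ^ f ≤ Fintype.card ι := by
    intro h4
    have h := H433.EP.le_card_of_core (G2.ls K (by rw [Nat.card_eq_fintype_card]; omega)
      (by rw [Nat.card_eq_fintype_card]; omega)) hF b.core ⟨e⟩
    rwa [Nat.card_eq_fintype_card, hK] at h
  have hpp : IsPrimePow (Fintype.card K) := FiniteField.isPrimePow_card K
  have hprime : ∀ {r k : ℕ}, r.Prime → p ^ f = r ^ k → k ≠ 0 → p = r ∧ f = k := by
    intro r k hr he hk
    have hf : f ≠ 0 := by
      rintro rfl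
      rw [pow_zero] at h3
      omega
    have h1 : p = r := by
      have h2 : p ∣ r ^ k := he ▸ dvd_pow_self p hf
      exact (Nat.prime_dvd_prime_iff_eq hp hr).1 (hp.dvd_of_dvd_pow h2)
    subst h1
    exact ⟨rfl, Nat.pow_right_injective hp.two_le he⟩
  have key := g2_dvd b e hp hK h3
  have hcases : p ^ f = 3 ∨ p ^ f = 4 ∨ p ^ f = 5 ∨ p ^ f = 6 ∨ p ^ f = 7 ∨ p ^ f = 8 ∨ p ^ f = 9 ∨ p ^ f = 10 := by
    omega
  rcases hcases with h | h | h | h | h | h | h | h
  · exact g2_three hg b (by rw [hK, h]) e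
  · obtain ⟨rfl, rfl⟩ := hprime (r := 2) (k := 2) Nat.prime_two (by rw [h]; norm_num) (by norm_num)
    rcases Nat.lt_or_ge 13 (Fintype.card ι) with h13 | h13
    · exact kill_list hg b key [(2, 13), (3, 3), (5, 2), (7, 1), (13, 1)] (by decide +kernel) (by decide +kernel)
        (by decide +kernel) (by decide +kernel) (by norm_num) (three_le_card hF) h13 (by decide +kernel)
    · exact g2_four_odd b (by rw [hK]; norm_num) e hF (by omega)
  · obtain ⟨rfl, rfl⟩ := hprime (r := 5) (k := 1) Nat.prime_five (by rw [h]; norm_num) (by norm_num)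
    have h20 : 20 ≤ Fintype.card ι := hd (by norm_num)
    exact kill_list hg b key [(2, 6), (3, 3), (5, 6), (7, 1), (31, 1)] (by decide +kernel) (by decide +kernel)
        (by decide +kernel) (by decide +kernel) (by norm_num) h2F h20 (by decide +kernel)
  · rw [hK, h] at hpp
    exact absurd hpp (by rw [isPrimePow_nat_iff_bounded]; decide)
  · obtain ⟨rfl, rfl⟩ := hprime (r := 7) (k := 1) (by norm_num) (by rw [h]; norm_num) (by norm_num)
    have h20 : 42 ≤ Fintype.card ι := hd (by norm_num)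
    exact kill_list hg b key [(2, 8), (3, 3), (7, 6), (19, 1), (43, 1)] (by decide +kernel) (by decide +kernel)
        (by decide +kernel) (by decide +kernel) (by norm_num) h2F h20 (by decide +kernel)
  · obtain ⟨rfl, rfl⟩ := hprime (r := 2) (k := 3) Nat.prime_two (by rw [h]; norm_num) (by norm_num)
    have h20 : 56 ≤ Fintype.card ι := hd (by norm_num)
    exact kill_list hg b key [(2, 18), (3, 6), (7, 2), (19, 1), (73, 1)] (by decide +kernel) (by decide +kernel)
        (by decide +kernel) (by decide +kernel) (by norm_num) h2F h20 (by decide +kernel)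
  · obtain ⟨rfl, rfl⟩ := hprime (r := 3) (k := 2) Nat.prime_three (by rw [h]; norm_num) (by norm_num)
    have h20 : 72 ≤ Fintype.card ι := hd (by norm_num)
    exact kill_list hg b key [(2, 10), (3, 12), (5, 2), (7, 1), (13, 1), (73, 1)] (by decide +kernel)
        (by decide +kernel) (by decide +kernel) (by decide +kernel) (by norm_num) h2F h20 (by decide +kernel)
  · rw [hK, h] at hpp
    exact absurd hpp (by rw [isPrimePow_nat_iff_bounded]; decide)

/-- `F₄(2)` -/
theorem f4_two (hg : TwoGen.{0}) (b : Big A Γ S P) {K : Type} [Field K] [Fintype K] (hK : Fintype.card K = 2)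
    (e : socle P ≃* chevF4.group K) (hF : ((2 : ℕ) : F) ≠ 0) : False := by
  have h0 := f4_dvd b e Nat.prime_two (f := 1) (by rw [hK]; norm_num)
  have hd := H433.EP.le_card_of_core (ls24_f4_two hK) hF b.core ⟨e⟩
  exact kill_list hg b h0 [(2, 25), (3, 6), (5, 2), (7, 2), (13, 1), (17, 1)] (by decide +kernel)
        (by decide +kernel) (by decide +kernel) (by decide +kernel) (by norm_num) (three_le_card hF) hd
        (by decide +kernel)

/-- `³D₄(2)` -/
theorem twd4_two (hg : TwoGen.{0}) (b : Big A Γ S P) {K : Type} [Field K] [Fintype K] (hK : Fintype.card K = 2 ^ 3)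
    (e : socle P ≃* twistedD4 K 2) (hF : ((2 : ℕ) : F) ≠ 0) : False := by
  have hch : CharP K 2 := charP_of Nat.prime_two hK
  have h0 := twd4_dvd b (p := 2) (f := 1) e Nat.prime_two le_rfl (by rw [hK]; norm_num)
  have hd := H433.EP.le_card_of_core (TwD4.ls (q := 2) Nat.prime_two.isPrimePow hK) hF b.core ⟨e⟩
  exact kill_list hg b h0 [(2, 12), (3, 5), (7, 2), (13, 1)] (by decide +kernel)
        (by decide +kernel) (by decide +kernel) (by decide +kernel) (by norm_num) (three_le_card hF) hd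
        (by decide +kernel)

/-- `²E₆(2)` -/
theorem twe6_two (hg : TwoGen.{0}) (b : Big A Γ S P) {K : Type} [Field K] [Fintype K] (hK : Fintype.card K = 2 ^ 2)
    (e : socle P ≃* twistedE6 K 2) (hF : ((2 : ℕ) : F) ≠ 0) : False := by
  have hch : CharP K 2 := charP_of Nat.prime_two hK
  have h0 := twe6_dvd b (p := 2) (f := 1) e Nat.prime_two le_rfl (by rw [hK]; norm_num)
  have hd := H433.EP.le_card_of_core (H656.LSTwE6.ls (q := 2) Nat.prime_two.isPrimePow hK) hF b.core ⟨e⟩
  exact kill_list hg b h0 [(2, 37), (3, 10), (5, 2), (7, 2), (11, 1), (13, 1), (17, 1), (19, 1)] (by decide +kernel)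
        (by decide +kernel) (by decide +kernel) (by decide +kernel) (by norm_num) (three_le_card hF) hd
        (by decide +kernel)

/-- `Sz(8)`, `Sz(32)` -/
theorem sz_small (hg : TwoGen.{0}) (b : Big A Γ S P) {K : Type} [Field K] [Fintype K] {m : ℕ} (hm : 1 ≤ m)
    (hm3 : m < 3) (hK : Fintype.card K = 2 ^ (2 * m + 1)) (e : socle P ≃* Cfsg.Lie.Sz K (2 ^ (m + 1)))
    (hF : ((2 : ℕ) : F) ≠ 0) : False := by
  have h0 := sz_dvd b hm hK e
  have hd := H433.EP.le_card_of_core (LS.sz hm hK) hF b.core ⟨e⟩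
  rw [Nat.card_eq_fintype_card, hK] at hd
  have hm' : m = 1 ∨ m = 2 := by omega
  rcases hm' with rfl | rfl
  · exact kill_list hg b h0 [(2, 6), (3, 1), (5, 1), (7, 1), (13, 1)] (by decide +kernel)
        (by decide +kernel) (by decide +kernel) (by decide +kernel) (by norm_num) (three_le_card hF) b.thirteen
        (by decide +kernel)
  · exact kill_list hg b h0 [(2, 10), (5, 3), (31, 1), (41, 1)] (by decide +kernel)
        (by decide +kernel) (by decide +kernel) (by decide +kernel) (by norm_num) (three_le_card hF) hd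
        (by decide +kernel)

/-- `²G₂(27)` -/
theorem ree_small (hg : TwoGen.{0}) (b : Big A Γ S P) {K : Type} [Field K] [Fintype K]
    (hK : Fintype.card K = 3 ^ (2 * 1 + 1)) (e : socle P ≃* twistedG2 K (3 ^ 1)) (hF : ((3 : ℕ) : F) ≠ 0) :
    False := by
  have h0 := ree_dvd b le_rfl hK e
  have hd := H433.EP.le_card_of_core (LS.ree le_rfl hK) hF b.core ⟨e⟩
  rw [Nat.card_eq_fintype_card, hK] at hd
  exact kill_list hg b h0 [(2, 3), (3, 10), (7, 1), (13, 1), (19, 1), (37, 1)] (by decide +kernel)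
        (by decide +kernel) (by decide +kernel) (by decide +kernel) (by norm_num) b.two_le hd
        (by decide +kernel)

theorem card_out_congr' {K : Type*} {T : Type*} [Group K] [Group T] (e : K ≃* T) :
    Nat.card (Cfsg.Out K) = Nat.card (Cfsg.Out T) := H55.OutGen.card_out_congr e

theorem out_tits {K : Type*} [Group K] (h : Cfsg.Lie.IsoTits K) : Nat.card (Cfsg.Out K) ≤ 2 := by
  obtain ⟨e'⟩ := H743.MeetTits.exists_tits_TT h
  have h1 := card_out_congr' (T := ↥Cfsg.Agent.TitsK.TT) e'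
  exact h1.trans_le H743.MeetTits.card_out_TT

/-- **The Tits group**, every characteristic. -/
theorem tits (hg : TwoGen.{0}) (b : Big A Γ S P) (h : IsoTits (socle P)) : False := by
  have ho := out_tits h
  have hcard : Nat.card (socle P) = 17971200 := (OddRank.SzTits.tits_card h).trans (by norm_num)
  obtain ⟨e⟩ := h
  have hd : 24 ≤ Fintype.card ι := by
    by_cases h2 : ((2 : ℕ) : F) = 0
    · obtain ⟨P', h1, ⟨e1⟩, -⟩ := H414.EPV.exists_fin P b.core.perfect
      have h5 : Nat.Prime 5 := by norm_num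
      have h5F : ((5 : ℕ) : F) ≠ 0 := by
        intro h0
        have h3 : ((5 : ℕ) : F) = 2 * ((2 : ℕ) : F) + 1 := by push_cast; norm_num
        rw [h3, h2, mul_zero, zero_add] at h0
        exact one_ne_zero h0
      exact (H921.Spor.Tits.Tits_five.bd h5 h5F) _
        (H912.Bd.PR.of_noR (H912.Bd.NoR.of_one Cfsg.Agent.S2115.result) P' h1 (e1.trans e))
    · exact H433.EP.le_card_of_core ls24_tits h2 b.core ⟨e⟩
  have hfin : Finite (socle P) := Nat.finite_of_card_ne_zero (by rw [hcard]; norm_num)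
  have h0 : Nat.card A ∣ 17971200 * 2 := by
    refine dvd_out b (MulEquiv.refl (socle P)) ?_
    rw [hcard]
    refine Nat.mul_dvd_mul_left _ ?_
    have h2 : 0 < Nat.card (Cfsg.Out (socle P)) := Nat.card_pos
    have h3 : Nat.card (Cfsg.Out (socle P)) = 1 ∨ Nat.card (Cfsg.Out (socle P)) = 2 := by omega
    rcases h3 with h3 | h3 <;> rw [h3]
    exact one_dvd _
  exact kill_list hg b h0 [(2, 12), (3, 3), (5, 2), (13, 1)] (by decide +kernel)
        (by decide +kernel) (by decide +kernel) (by decide +kernel) (by norm_num) b.two_le hd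
        (by decide +kernel)

end Cfsg.Agent.H648.EPV
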