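import Cfsg.Agent.H648.EPV.ExcSmall
import Cfsg.Agent.H912.FiveList
import Cfsg.Agent.H912.KnownSplit

/-!
# S3499-V-LIE-EXC: exceptional socles in cross characteristic, dimension at least 13 (helper648, task 6105)

* `exc_cross` : `Big A Γ S P`, `socle P` of exceptional Lie type in characteristic `r`, `(r : F) ≠ 0`: impossible;
* `tits` (in `ExcSmall`) : `socle P` the Tits group, every characteristic: impossible;
* `exc_of_own` : `BigOf IsExceptionalLieType` from the own characteristic part.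
-/

set_option autoImplicit false

namespace Cfsg.Agent.H648.EPV

open Subgroup Cfsg.Lie Cfsg.Agent.H284 Cfsg.Agent.H419.EP Cfsg.Agent.H528.EP Cfsg.Agent.H59.EP
open scoped MatrixGroups

variable {Q : Type} [Group Q] [Finite Q] {A : Subgroup Q} {Γ : Subgroup (MulAut Q)} {ι : Type} [Fintype ι]
  [DecidableEq ι] {F : Type} [Field F] [Fintype F] {S P : Subgroup (GL ι F)}

theorem eq_char {K : Type} [Field K] [Fintype K] {r p k : ℕ} (hr : r.Prime) [CharP K r] (hp : p.Prime)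
    (hK : Fintype.card K = p ^ k) (hk : k ≠ 0) : p = r := by
  have h1 : p ∣ Fintype.card K := by rw [hK]; exact dvd_pow_self p hk
  obtain ⟨f, -, h2⟩ := FiniteField.card K r
  rw [h2] at h1
  exact (Nat.prime_dvd_prime_iff_eq hp hr).1 (hp.dvd_of_dvd_pow h1)

/-- **Exceptional socles in cross characteristic.** -/
theorem exc_cross (hg : TwoGen.{0}) (b : Big A Γ S P) {r : ℕ} (hr : r.Prime) (hrF : (r : F) ≠ 0)
    (h : H912.Five.ExcL r (socle P)) : False := by
  rcases h with ⟨K, _, _, _, h⟩ | ⟨K, _, _, _, q, hq, h⟩ | ⟨rfl, K, _, _, m, hm, hK, ⟨e⟩⟩ |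
    ⟨rfl, K, _, _, m, hm, hK, ⟨e⟩⟩ | ⟨rfl, K, _, _, m, hm, hK, ⟨e⟩⟩
  · obtain ⟨f, -, hK⟩ := FiniteField.card K r
    have hf : 1 ≤ (f : ℕ) := f.pos
    rcases h with ⟨h3, ⟨e⟩⟩ | ⟨⟨e⟩⟩ | ⟨⟨e⟩⟩ | ⟨⟨e⟩⟩ | ⟨⟨e⟩⟩
    · rcases Nat.lt_or_ge (r ^ (f : ℕ)) 11 with h11 | h11
      · exact g2_small hg b e hr hK hrF (by rw [← hK]; exact h3) h11
      · exact g2_big b e hr hf hK hrF h11
    · rcases Nat.lt_or_ge (r ^ (f : ℕ)) 3 with h3 | h3
      · have h2 : 2 ≤ r ^ (f : ℕ) := hr.two_le.trans (Nat.le_self_pow (by omega) r)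
        have h4 : r ^ (f : ℕ) = 2 := by omega
        have hr2 : r = 2 := by
          have h5 : r ≤ r ^ (f : ℕ) := Nat.le_self_pow (by omega) r
          have := hr.two_le
          omega
        subst hr2
        exact f4_two hg b (by rw [hK, h4]) e hrF
      · exact f4_big b e hr hf hK hrF h3
    · exact e6_big b e hr hf hK hrF
    · exact e7_big b e hr hf hK hrF
    · exact e8_big b e hr hf hK hrF
  · obtain ⟨p, f, hp, hf, rfl⟩ := (isPrimePow_nat_iff _).1 hq
    have h2 : 2 ≤ p ^ f := hq.two_le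
    rcases h with ⟨hK, ⟨e⟩⟩ | ⟨hK, ⟨e⟩⟩
    · have hpr : p = r := eq_char (K := K) (k := f * 2) hr hp (by rw [hK, pow_mul]) (by omega)
      subst hpr
      rcases Nat.lt_or_ge (p ^ f) 3 with h3 | h3
      · have h4 : p ^ f = 2 := by omega
        have h5 : p ≤ p ^ f := Nat.le_self_pow (by omega) p
        have hr2 : p = 2 := by
          have := hp.two_le
          omega
        subst hr2
        have h6 : f = 1 := Nat.pow_right_injective (le_refl 2) (h4.trans (pow_one 2).symm)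
        subst h6
        exact twe6_two hg b hK e hrF
      · exact twe6_big b e hp hf hK hrF h3
    · have hpr : p = r := eq_char (K := K) (k := f * 3) hr hp (by rw [hK, pow_mul]) (by omega)
      subst hpr
      rcases Nat.lt_or_ge (p ^ f) 3 with h3 | h3
      · have h4 : p ^ f = 2 := by omega
        have h5 : p ≤ p ^ f := Nat.le_self_pow (by omega) p
        have hr2 : p = 2 := by
          have := hp.two_le
          omega
        subst hr2
        have h6 : f = 1 := Nat.pow_right_injective (le_refl 2) (h4.trans (pow_one 2).symm)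
        subst h6
        exact twd4_two hg b hK e hrF
      · exact twd4_big b e hp hf hK hrF h3
  · rcases Nat.lt_or_ge m 3 with h3 | h3
    · exact sz_small hg b hm h3 hK e hrF
    · exact sz_big b h3 hK e hrF
  · exact twf4_big b hm hK e hrF
  · rcases Nat.lt_or_ge m 2 with h3 | h3
    · obtain rfl : m = 1 := by omega
      exact ree_small hg b hK e hrF
    · exact ree_big b h3 hK e hrF

/-- an exceptional group of Lie type is of type `ExcL` or the Tits group -/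
theorem excL_of {L : Type} [Group L] (h : Cfsg.IsExceptionalLieType L) :
    (∃ r, r.Prime ∧ H912.Five.ExcL r L) ∨ IsoTits L := by
  rcases h with ⟨K, iF, iT, h1, h2⟩ | ⟨K, iF, iT, h⟩ | ⟨K, iF, iT, h⟩ | ⟨K, iF, iT, h⟩ | ⟨K, iF, iT, h⟩ |
      ⟨K, iF, iT, q, hq, h1, h2⟩ | ⟨K, iF, iT, q, hq, h1, h2⟩ | h | h | h | h
  · obtain ⟨p, hp, hF⟩ := H912.Known.exists_char K
    exact Or.inl ⟨p, hp, Or.inl ⟨K, iF, iT, hF, Or.inl ⟨h1, h2⟩⟩⟩
  · obtain ⟨p, hp, hF⟩ := H912.Known.exists_char K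
    exact Or.inl ⟨p, hp, Or.inl ⟨K, iF, iT, hF, Or.inr (Or.inl h)⟩⟩
  · obtain ⟨p, hp, hF⟩ := H912.Known.exists_char K
    exact Or.inl ⟨p, hp, Or.inl ⟨K, iF, iT, hF, Or.inr (Or.inr (Or.inl h))⟩⟩
  · obtain ⟨p, hp, hF⟩ := H912.Known.exists_char K
    exact Or.inl ⟨p, hp, Or.inl ⟨K, iF, iT, hF, Or.inr (Or.inr (Or.inr (Or.inl h)))⟩⟩
  · obtain ⟨p, hp, hF⟩ := H912.Known.exists_char K
    exact Or.inl ⟨p, hp, Or.inl ⟨K, iF, iT, hF, Or.inr (Or.inr (Or.inr (Or.inr h)))⟩⟩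
  · obtain ⟨p, hp, hF⟩ := H912.Known.exists_char K
    exact Or.inl ⟨p, hp, Or.inr (Or.inl ⟨K, iF, iT, hF, q, hq, Or.inl ⟨h1, h2⟩⟩)⟩
  · obtain ⟨p, hp, hF⟩ := H912.Known.exists_char K
    exact Or.inl ⟨p, hp, Or.inr (Or.inl ⟨K, iF, iT, hF, q, hq, Or.inr ⟨h1, h2⟩⟩)⟩
  · exact Or.inl ⟨2, Nat.prime_two, Or.inr (Or.inr (Or.inl ⟨rfl, h⟩))⟩
  · exact Or.inl ⟨3, Nat.prime_three, Or.inr (Or.inr (Or.inr (Or.inr ⟨rfl, h⟩)))⟩
  · exact Or.inl ⟨2, Nat.prime_two, Or.inr (Or.inr (Or.inr (Or.inl ⟨rfl, h⟩)))⟩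
  · exact Or.inr h

/-- the own characteristic part -/
def OwnExc : Prop := ∀ {Q : Type} [Group Q] [Finite Q] {A : Subgroup Q} {Γ : Subgroup (MulAut Q)} {ι : Type}
    [Fintype ι] [DecidableEq ι] {F : Type} [Field F] [Fintype F] {S P : Subgroup (GL ι F)}, Big A Γ S P →
    ∀ {r : ℕ}, r.Prime → (r : F) = 0 → H912.Five.ExcL r (socle P) → False

/-- **`BigOf IsExceptionalLieType` from the own characteristic part.** -/
theorem exc_of_own (hg : TwoGen.{0}) (hown : OwnExc) : BigOf (fun L _ => Cfsg.IsExceptionalLieType L) := by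
  intro Q _ _ A Γ ι _ _ F _ _ S P b h
  rcases excL_of h with ⟨r, hr, h⟩ | h
  · by_cases hrF : (r : F) = 0
    · exact hown b hr hrF h
    · exact exc_cross hg b hr hrF h
  · exact tits hg b h

end Cfsg.Agent.H648.EPV
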