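import Cfsg.Agent.H648.EPV.Kill
import Cfsg.Agent.H433.EP.LSn
import Cfsg.Agent.H203.LSG2
import Cfsg.Agent.H203.LSF4odd
import Cfsg.Agent.H203.LSF4even
import Cfsg.Agent.H203.LSE6
import Cfsg.Agent.H203.LSE7
import Cfsg.Agent.H203.LSE8
import Cfsg.Agent.H203.LSTwE6
import Cfsg.Agent.H203.LSTwD4
import Cfsg.Agent.H203.LSTwF4
import Cfsg.Agent.H203.LSSz
import Cfsg.Agent.S1059
import Cfsg.Agent.S1062
import Cfsg.Agent.S1063
import Cfsg.Agent.S1064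
import Cfsg.Agent.S1065
import Cfsg.Agent.S1066
import Cfsg.Agent.S1067
import Cfsg.Agent.S1068
import Cfsg.Agent.S1069
import Cfsg.Agent.S1163
import Cfsg.Agent.S2121
import Cfsg.Agent.S2122
import Cfsg.Agent.S2123
import Cfsg.Agent.S2124
import Cfsg.Agent.S2125
import Cfsg.Agent.S2126
import Cfsg.Agent.S2127
import Cfsg.Agent.S2128
import Cfsg.Agent.S2129
import Cfsg.Agent.S2130

/-!
# S3499-V: exceptional socles in cross characteristic, the large fields (helper648, task 6105)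
-/

set_option autoImplicit false

namespace Cfsg.Agent.H648.EPV

open Subgroup Cfsg.Lie Cfsg.Agent.H284 Cfsg.Agent.H419.EP Cfsg.Agent.H528.EP Cfsg.Agent.H203.LS
open scoped MatrixGroups

/-! ### logarithms -/

theorem log_spec {s : ℕ} (hs : 2 ≤ s) : s < 2 ^ (Nat.log 2 s + 1) ∧ 2 ^ Nat.log 2 s ≤ s :=
  ⟨Nat.lt_pow_succ_log_self (by norm_num) _, Nat.pow_log_le_self 2 (by omega)⟩

theorem log_eleven {s : ℕ} (hs : 11 ≤ s) : 4 * (Nat.log 2 s + 1) ≤ s + 5 := by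
  obtain ⟨h1, h2⟩ := log_spec (s := s) (by omega)
  rcases Nat.lt_or_ge (Nat.log 2 s) 4 with h | h
  · omega
  · obtain ⟨k, hk⟩ := Nat.exists_eq_add_of_le' h
    have h3 : ∀ k, 4 * (k + 5) ≤ 2 ^ (k + 4) + 5 := by
      intro k
      induction k with
      | zero => norm_num
      | succ k ih =>
        have e : 2 ^ (k + 1 + 4) = 2 * 2 ^ (k + 4) := by rw [show k + 1 + 4 = (k + 4) + 1 by ring, pow_succ']
        have e2 : 2 ^ 4 ≤ 2 ^ (k + 4) := Nat.pow_le_pow_right (by norm_num) (by omega)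
        omega
    have h4 := h3 k
    rw [← hk] at h4
    omega

theorem log_three {s : ℕ} (hs : 3 ≤ s) : Nat.log 2 s + 1 + 1 ≤ s := by
  obtain ⟨h1, h2⟩ := log_spec (s := s) (by omega)
  rcases Nat.lt_or_ge (Nat.log 2 s) 2 with h | h
  · omega
  · obtain ⟨k, hk⟩ := Nat.exists_eq_add_of_le' h
    have h3 : ∀ k, k + 2 + 1 + 1 ≤ 2 ^ (k + 2) := by
      intro k
      induction k with
      | zero => norm_num
      | succ k ih =>
        have e : 2 ^ (k + 1 + 2) = 2 * 2 ^ (k + 2) := by rw [show k + 1 + 2 = (k + 2) + 1 by ring, pow_succ']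
        omega
    have h4 := h3 k
    rw [← hk] at h4
    omega

theorem log_two {s : ℕ} (hs : 2 ≤ s) : Nat.log 2 s + 1 ≤ s := by
  rcases Nat.lt_or_ge s 3 with h | h
  · obtain rfl : s = 2 := by omega
    decide
  · have := log_three h
    omega

theorem log_big {s : ℕ} (hs : 128 ≤ s) : 16 * (Nat.log 2 s + 1) ≤ s := by
  obtain ⟨h1, h2⟩ := log_spec (s := s) (by omega)
  have h : 7 ≤ Nat.log 2 s := by
    by_contra hcon
    have : 2 ^ (Nat.log 2 s + 1) ≤ 2 ^ 7 := Nat.pow_le_pow_right (by norm_num) (by omega)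
    omega
  obtain ⟨k, hk⟩ := Nat.exists_eq_add_of_le' h
  have h3 : ∀ k, 16 * (k + 7 + 1) ≤ 2 ^ (k + 7) := by
    intro k
    induction k with
    | zero => norm_num
    | succ k ih =>
      have e : 2 ^ (k + 1 + 7) = 2 * 2 ^ (k + 7) := by rw [show k + 1 + 7 = (k + 7) + 1 by ring, pow_succ']
      have e2 : 2 ^ 7 ≤ 2 ^ (k + 7) := Nat.pow_le_pow_right (by norm_num) (by omega)
      omega
  have h4 := h3 k
  rw [← hk] at h4
  omega

theorem two_mul_le {p f : ℕ} (hp : 2 ≤ p) (hf : 1 ≤ f) : 2 * f ≤ p ^ f := by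
  refine le_trans ?_ (Nat.pow_le_pow_left hp f)
  obtain ⟨k, rfl⟩ := Nat.exists_eq_add_of_le' hf
  induction k with
  | zero => norm_num
  | succ k ih =>
    have e : 2 ^ (k + 1 + 1) = 2 * 2 ^ (k + 1) := by rw [pow_succ']
    have h1 := ih (by omega)
    omega

theorem six_mul_le {p f : ℕ} (hp : 2 ≤ p) (hf : 1 ≤ f) : 6 * f ≤ (p ^ f) ^ 3 := by
  have h1 := two_mul_le hp hf
  have h2 : 2 ≤ p ^ f := hp.trans (Nat.le_self_pow (by omega) p)
  have h3 : 2 * 2 * (p ^ f) ≤ (p ^ f) ^ 3 := by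
    rw [pow_succ, pow_two]
    exact Nat.mul_le_mul_right _ (Nat.mul_le_mul h2 h2)
  omega

theorem three_mul_le {p f : ℕ} (hp : 2 ≤ p) (hf : 1 ≤ f) : 3 * f ≤ (p ^ f) ^ 2 := by
  have h1 := two_mul_le hp hf
  have h2 : 2 ≤ p ^ f := hp.trans (Nat.le_self_pow (by omega) p)
  have h3 : 2 * (p ^ f) ≤ (p ^ f) ^ 2 := by
    rw [pow_two]
    exact Nat.mul_le_mul_right _ h2
  omega

variable {Q : Type} [Group Q] [Finite Q] {A : Subgroup Q} {Γ : Subgroup (MulAut Q)} {ι : Type} [Fintype ι]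
  [DecidableEq ι] {F : Type} [Field F] [Fintype F] {S P : Subgroup (GL ι F)}

/-- the kill for large fields -/
theorem kill_pow (b : Big A Γ S P) {N s E d : ℕ} (hA : Nat.card A ∣ N) (hN0 : N ≠ 0) (hs : 2 ≤ s) (hNs : N ≤ s ^ E)
    (hE : 4 ≤ E) (hd : d ≤ Fintype.card ι) (hmd : 3 * (E * (Nat.log 2 s + 1) + 2) ≤ 2 * d) : False := by
  refine kill_big b hA hN0 (m := E * (Nat.log 2 s + 1)) (Nat.le_trans hE (Nat.le_mul_of_pos_right _ (by omega))) ?_ hd hmd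
  refine hNs.trans ?_
  rw [mul_comm, pow_mul]
  exact Nat.pow_le_pow_left (log_spec hs).1.le E

/-! ### the divisors -/

theorem charP_of {K : Type} [Field K] [Fintype K] {p f : ℕ} (hp : p.Prime) (hK : Fintype.card K = p ^ f) :
    CharP K p := by
  have := Fact.mk hp
  exact charP_of_card_eq_prime_pow hK

theorem g2_dvd (b : Big A Γ S P) {K : Type} [Field K] [Fintype K] (e : socle P ≃* chevG2.group K) {p f : ℕ}
    (hp : p.Prime) (hK : Fintype.card K = p ^ f) (h3 : 3 ≤ p ^ f) :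
    Nat.card A ∣ (p ^ f) ^ 6 * ((p ^ f) ^ 2 - 1) * ((p ^ f) ^ 6 - 1) * (if p = 3 then 2 * f else f) := by
  have := Fact.mk hp
  have := charP_of hp hK
  have : Finite (chevG2.group K) := inferInstance
  refine dvd_out b e ?_
  rw [Cfsg.Agent.S1059.result hK, Cfsg.Agent.S2121.result p f hK h3]

theorem f4_dvd (b : Big A Γ S P) {K : Type} [Field K] [Fintype K] (e : socle P ≃* chevF4.group K) {p f : ℕ}
    (hp : p.Prime) (hK : Fintype.card K = p ^ f) :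
    Nat.card A ∣ (p ^ f) ^ 24 * ((p ^ f) ^ 2 - 1) * ((p ^ f) ^ 6 - 1) * ((p ^ f) ^ 8 - 1) * ((p ^ f) ^ 12 - 1) *
      (Nat.gcd 2 p * f) := by
  have := Fact.mk hp
  have := charP_of hp hK
  have : Finite (chevF4.group K) := inferInstance
  refine dvd_out b e ?_
  rw [Cfsg.Agent.S1062.result hK, Cfsg.Agent.S2122.result p f hK]

theorem e6_dvd (b : Big A Γ S P) {K : Type} [Field K] [Fintype K] (e : socle P ≃* chevE6.group K) {p f : ℕ}
    (hp : p.Prime) (hK : Fintype.card K = p ^ f) :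
    Nat.card A ∣ (p ^ f) ^ 36 * ((p ^ f) ^ 2 - 1) * ((p ^ f) ^ 5 - 1) * ((p ^ f) ^ 6 - 1) * ((p ^ f) ^ 8 - 1) *
      ((p ^ f) ^ 9 - 1) * ((p ^ f) ^ 12 - 1) * (2 * Nat.gcd 3 (p ^ f - 1) * f) := by
  have := Fact.mk hp
  have := charP_of hp hK
  have : Finite (chevE6.group K) := inferInstance
  refine dvd_out b e ?_
  rw [← Cfsg.Agent.S1063.result hK, Cfsg.Agent.S2123.result p f hK]
  exact Nat.mul_dvd_mul_right (Dvd.intro_left _ rfl) _

theorem e7_dvd (b : Big A Γ S P) {K : Type} [Field K] [Fintype K] (e : socle P ≃* chevE7.group K) {p f : ℕ}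
    (hp : p.Prime) (hK : Fintype.card K = p ^ f) :
    Nat.card A ∣ (p ^ f) ^ 63 * ((p ^ f) ^ 2 - 1) * ((p ^ f) ^ 6 - 1) * ((p ^ f) ^ 8 - 1) * ((p ^ f) ^ 10 - 1) *
      ((p ^ f) ^ 12 - 1) * ((p ^ f) ^ 14 - 1) * ((p ^ f) ^ 18 - 1) * (Nat.gcd 2 (p ^ f - 1) * f) := by
  have := Fact.mk hp
  have := charP_of hp hK
  have : Finite (chevE7.group K) := inferInstance
  refine dvd_out b e ?_
  rw [← Cfsg.Agent.S1064.result hK, Cfsg.Agent.S2124.result p f hK]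
  exact Nat.mul_dvd_mul_right (Dvd.intro_left _ rfl) _

theorem e8_dvd (b : Big A Γ S P) {K : Type} [Field K] [Fintype K] (e : socle P ≃* chevE8.group K) {p f : ℕ}
    (hp : p.Prime) (hK : Fintype.card K = p ^ f) :
    Nat.card A ∣ (p ^ f) ^ 120 * ((p ^ f) ^ 2 - 1) * ((p ^ f) ^ 8 - 1) * ((p ^ f) ^ 12 - 1) * ((p ^ f) ^ 14 - 1) *
      ((p ^ f) ^ 18 - 1) * ((p ^ f) ^ 20 - 1) * ((p ^ f) ^ 24 - 1) * ((p ^ f) ^ 30 - 1) * f := by
  have := Fact.mk hp
  have := charP_of hp hK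
  have : Finite (chevE8.group K) := inferInstance
  refine dvd_out b e ?_
  rw [Cfsg.Agent.S1065.result hK, Cfsg.Agent.S2125.result p f hK]

theorem twe6_dvd (b : Big A Γ S P) {K : Type} [Field K] [Fintype K] {p f : ℕ}
    (e : socle P ≃* twistedE6 K (p ^ f)) (hp : p.Prime) (hf : 1 ≤ f) (hK : Fintype.card K = (p ^ f) ^ 2) :
    Nat.card A ∣ (p ^ f) ^ 36 * ((p ^ f) ^ 2 - 1) * ((p ^ f) ^ 5 + 1) * ((p ^ f) ^ 6 - 1) * ((p ^ f) ^ 8 - 1) *
      ((p ^ f) ^ 9 + 1) * ((p ^ f) ^ 12 - 1) / (Nat.gcd 3 (p ^ f + 1)) * (2 * Nat.gcd 3 (p ^ f + 1) * f) := by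
  have := Fact.mk hp
  have hK2 : Fintype.card K = p ^ (2 * f) := by rw [hK, ← pow_mul, mul_comm]
  have := charP_of hp hK2
  have : Finite (twistedE6 K (p ^ f)) := inferInstance
  refine dvd_out b e ?_
  rw [← Cfsg.Agent.S1066.result (K := K) (q := p ^ f) (hp.isPrimePow.pow (by omega)) hK,
    Cfsg.Agent.S2130.result p f hK2 hf, Nat.mul_div_cancel_left _ (Nat.gcd_pos_of_pos_left _ (by norm_num))]

theorem twd4_dvd (b : Big A Γ S P) {K : Type} [Field K] [Fintype K] {p f : ℕ}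
    (e : socle P ≃* twistedD4 K (p ^ f)) (hp : p.Prime) (hf : 1 ≤ f) (hK : Fintype.card K = (p ^ f) ^ 3) :
    Nat.card A ∣ (p ^ f) ^ 12 * ((p ^ f) ^ 2 - 1) * ((p ^ f) ^ 6 - 1) * ((p ^ f) ^ 8 + (p ^ f) ^ 4 + 1) * (3 * f) := by
  have := Fact.mk hp
  have hK2 : Fintype.card K = p ^ (3 * f) := by rw [hK, ← pow_mul, mul_comm]
  have := charP_of hp hK2
  have : Finite (twistedD4 K (p ^ f)) := inferInstance
  refine dvd_out b e ?_
  rw [Cfsg.Agent.S1067.result (K := K) (q := p ^ f) (hp.isPrimePow.pow (by omega)) hK,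
    Cfsg.Agent.S2129.result p f hK2 hf]

theorem twf4_dvd (b : Big A Γ S P) {K : Type} [Field K] [Fintype K] {m : ℕ} (hm : 1 ≤ m)
    (hK : Fintype.card K = 2 ^ (2 * m + 1)) (e : socle P ≃* twistedF4 K (2 ^ m)) :
    Nat.card A ∣ (2 ^ (2 * m + 1)) ^ 12 * (2 ^ (2 * m + 1) - 1) * ((2 ^ (2 * m + 1)) ^ 3 + 1) *
      ((2 ^ (2 * m + 1)) ^ 4 - 1) * ((2 ^ (2 * m + 1)) ^ 6 + 1) * (2 * m + 1) := by
  have : Finite (twistedF4 K (2 ^ m)) := inferInstance
  refine dvd_out b e ?_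
  rw [Cfsg.Agent.S1068.result hK, Cfsg.Agent.S2128.result hm hK]

theorem ree_dvd (b : Big A Γ S P) {K : Type} [Field K] [Fintype K] {m : ℕ} (hm : 1 ≤ m)
    (hK : Fintype.card K = 3 ^ (2 * m + 1)) (e : socle P ≃* twistedG2 K (3 ^ m)) :
    Nat.card A ∣ (3 ^ (2 * m + 1)) ^ 3 * (3 ^ (2 * m + 1) - 1) * ((3 ^ (2 * m + 1)) ^ 3 + 1) * (2 * m + 1) := by
  have : Finite (twistedG2 K (3 ^ m)) := inferInstance
  refine dvd_out b e ?_
  rw [Cfsg.Agent.S1069.result hK, Cfsg.Agent.S2127.result hm hK]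

theorem sz_dvd (b : Big A Γ S P) {K : Type} [Field K] [Fintype K] {m : ℕ} (hm : 1 ≤ m)
    (hK : Fintype.card K = 2 ^ (2 * m + 1)) (e : socle P ≃* Cfsg.Lie.Sz K (2 ^ (m + 1))) :
    Nat.card A ∣ (2 ^ (2 * m + 1)) ^ 2 * (2 ^ (2 * m + 1) - 1) * ((2 ^ (2 * m + 1)) ^ 2 + 1) * (2 * m + 1) := by
  have : Finite (Cfsg.Lie.Sz K (2 ^ (m + 1))) := inferInstance
  refine dvd_out b e ?_
  rw [(Cfsg.Agent.S1163.result hm hK).1, Cfsg.Agent.S2126.result hm hK]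

/-! ### the large fields -/

theorem pow_sub_le (s a : ℕ) : s ^ a - 1 ≤ s ^ a := Nat.sub_le _ _

theorem pos_pow_sub {s a : ℕ} (hs : 2 ≤ s) (ha : 1 ≤ a) : 0 < s ^ a - 1 := by
  have : 2 ^ 1 ≤ s ^ a := (Nat.pow_le_pow_left hs 1).trans (Nat.pow_le_pow_right (by omega) ha)
  omega

/-- `G₂(s)`, `s ≥ 11` -/
theorem g2_big (b : Big A Γ S P) {K : Type} [Field K] [Fintype K] (e : socle P ≃* chevG2.group K) {p f : ℕ}
    (hp : p.Prime) (hf : 1 ≤ f) (hK : Fintype.card K = p ^ f) (hF : (p : F) ≠ 0) (h11 : 11 ≤ p ^ f) : False := by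
  have := charP_of hp hK
  have hc : Nat.card K = p ^ f := by rw [Nat.card_eq_fintype_card, hK]
  have hd := H433.EP.le_card_of_core (G2.ls K (by omega) (by omega)) hF b.core ⟨e⟩
  rw [hc] at hd
  have h0 := g2_dvd b e hp hK (by omega)
  have h2 : 2 ≤ p ^ f := by omega
  have hfs := two_mul_le hp.two_le hf
  refine kill_pow b h0 ?_ h2 (E := 15) ?_ (by norm_num) hd ?_
  · refine mul_ne_zero (mul_ne_zero (mul_ne_zero (by positivity) ?_) ?_) ?_
    · exact (pos_pow_sub h2 (by norm_num)).ne'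
    · exact (pos_pow_sub h2 (by norm_num)).ne'
    · split_ifs <;> omega
  · have h5 : (if p = 3 then 2 * f else f) ≤ p ^ f := by split_ifs <;> omega
    calc _ ≤ (p ^ f) ^ 6 * (p ^ f) ^ 2 * (p ^ f) ^ 6 * (p ^ f) :=
          Nat.mul_le_mul (Nat.mul_le_mul (Nat.mul_le_mul le_rfl (pow_sub_le _ _)) (pow_sub_le _ _)) h5
      _ = (p ^ f) ^ 15 := by ring
  · have h6 := log_eleven h11
    generalize p ^ f = s at h11 h6
    generalize Nat.log 2 s + 1 = t at h6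
    obtain ⟨k, rfl⟩ : ∃ k, s = k + 11 := ⟨s - 11, by omega⟩
    have e1 : k + 11 - 1 = k + 10 := by omega
    rw [e1]
    nlinarith

/-- `F₄(s)`, `s ≥ 3` -/
theorem f4_big (b : Big A Γ S P) {K : Type} [Field K] [Fintype K] (e : socle P ≃* chevF4.group K) {p f : ℕ}
    (hp : p.Prime) (hf : 1 ≤ f) (hK : Fintype.card K = p ^ f) (hF : (p : F) ≠ 0) (h3 : 3 ≤ p ^ f) : False := by
  have := charP_of hp hK
  have hc : Nat.card K = p ^ f := by rw [Nat.card_eq_fintype_card, hK]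
  have hd : (p ^ f - 1) * (p ^ f) ^ 4 ≤ Fintype.card ι := by
    by_cases h2 : (2 : K) = 0
    · have h := H433.EP.le_card_of_core (F4even.ls_even K h2 (by omega)) hF b.core ⟨e⟩
      rwa [hc] at h
    · have h := H433.EP.le_card_of_core (F4odd.ls_odd K h2) hF b.core ⟨e⟩
      rwa [hc] at h
  have h0 := f4_dvd b e hp hK
  have h2 : 2 ≤ p ^ f := by omega
  have hfs := two_mul_le hp.two_le hf
  have hg : Nat.gcd 2 p * f ≤ p ^ f := (Nat.mul_le_mul_right f (Nat.gcd_le_left p (by norm_num))).trans hfs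
  refine kill_pow b h0 ?_ h2 (E := 53) ?_ (by norm_num) hd ?_
  · refine mul_ne_zero (mul_ne_zero (mul_ne_zero (mul_ne_zero (mul_ne_zero (by positivity) ?_) ?_) ?_) ?_) ?_
    · exact (pos_pow_sub h2 (by norm_num)).ne'
    · exact (pos_pow_sub h2 (by norm_num)).ne'
    · exact (pos_pow_sub h2 (by norm_num)).ne'
    · exact (pos_pow_sub h2 (by norm_num)).ne'
    · exact mul_ne_zero (Nat.gcd_pos_of_pos_left _ (by norm_num)).ne' (by omega)
  · calc _ ≤ (p ^ f) ^ 24 * (p ^ f) ^ 2 * (p ^ f) ^ 6 * (p ^ f) ^ 8 * (p ^ f) ^ 12 * (p ^ f) :=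
          Nat.mul_le_mul (Nat.mul_le_mul (Nat.mul_le_mul (Nat.mul_le_mul (Nat.mul_le_mul le_rfl (pow_sub_le _ _))
            (pow_sub_le _ _)) (pow_sub_le _ _)) (pow_sub_le _ _)) hg
      _ = (p ^ f) ^ 53 := by ring
  · have h6 := log_three h3
    generalize p ^ f = s at h3 h6
    have h7 : 3 ^ 4 ≤ s ^ 4 := Nat.pow_le_pow_left h3 4
    have h8 : (s - 1) * 81 ≤ (s - 1) * s ^ 4 := Nat.mul_le_mul_left _ h7
    omega

theorem e6_big (b : Big A Γ S P) {K : Type} [Field K] [Fintype K] (e : socle P ≃* chevE6.group K) {p f : ℕ}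
    (hp : p.Prime) (hf : 1 ≤ f) (hK : Fintype.card K = p ^ f) (hF : (p : F) ≠ 0) : False := by
  have := charP_of hp hK
  have hc : Nat.card K = p ^ f := by rw [Nat.card_eq_fintype_card, hK]
  have hd := H433.EP.le_card_of_core (E6.ls K) hF b.core ⟨e⟩
  rw [hc] at hd
  have h0 := e6_dvd b e hp hK
  have h2 : 2 ≤ p ^ f := hp.two_le.trans (Nat.le_self_pow (by omega) p)
  have hg : 2 * Nat.gcd 3 (p ^ f - 1) * f ≤ (p ^ f) ^ 3 :=
    (Nat.mul_le_mul_right f (Nat.mul_le_mul_left 2 (Nat.gcd_le_left _ (by norm_num)))).trans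
      (six_mul_le hp.two_le hf)
  refine kill_pow b h0 ?_ h2 (E := 81) ?_ (by norm_num) hd ?_
  · refine mul_ne_zero (mul_ne_zero (mul_ne_zero (mul_ne_zero (mul_ne_zero (mul_ne_zero (mul_ne_zero (by positivity) ?_) ?_) ?_)
      ?_) ?_) ?_) ?_
    · exact (pos_pow_sub h2 (by norm_num)).ne'
    · exact (pos_pow_sub h2 (by norm_num)).ne'
    · exact (pos_pow_sub h2 (by norm_num)).ne'
    · exact (pos_pow_sub h2 (by norm_num)).ne'
    · exact (pos_pow_sub h2 (by norm_num)).ne'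
    · exact (pos_pow_sub h2 (by norm_num)).ne'
    · exact mul_ne_zero (mul_ne_zero two_ne_zero (Nat.gcd_pos_of_pos_left _ (by norm_num)).ne') (by omega)
  · calc _ ≤ (p ^ f) ^ 36 * (p ^ f) ^ 2 * (p ^ f) ^ 5 * (p ^ f) ^ 6 * (p ^ f) ^ 8 * (p ^ f) ^ 9 * (p ^ f) ^ 12 *
            (p ^ f) ^ 3 :=
          Nat.mul_le_mul (Nat.mul_le_mul (Nat.mul_le_mul (Nat.mul_le_mul (Nat.mul_le_mul (Nat.mul_le_mul
            (Nat.mul_le_mul le_rfl (pow_sub_le _ _)) (pow_sub_le _ _)) (pow_sub_le _ _)) (pow_sub_le _ _))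
            (pow_sub_le _ _)) (pow_sub_le _ _)) hg
      _ = (p ^ f) ^ 81 := by ring
  · have h6 := log_two h2
    generalize p ^ f = s at h2 h6
    have h7 : 2 ^ 9 ≤ s ^ 9 := Nat.pow_le_pow_left h2 9
    have h8 : 1 * (2 ^ 9 * s) ≤ (s - 1) * s ^ 10 := by
      refine Nat.mul_le_mul (by omega) ?_
      rw [pow_succ s 9]
      exact Nat.mul_le_mul_right _ h7
    omega

theorem e7_big (b : Big A Γ S P) {K : Type} [Field K] [Fintype K] (e : socle P ≃* chevE7.group K) {p f : ℕ}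
    (hp : p.Prime) (hf : 1 ≤ f) (hK : Fintype.card K = p ^ f) (hF : (p : F) ≠ 0) : False := by
  have := charP_of hp hK
  have hc : Nat.card K = p ^ f := by rw [Nat.card_eq_fintype_card, hK]
  have hd := H433.EP.le_card_of_core (E7.ls K) hF b.core ⟨e⟩
  rw [hc] at hd
  have h0 := e7_dvd b e hp hK
  have h2 : 2 ≤ p ^ f := hp.two_le.trans (Nat.le_self_pow (by omega) p)
  have hg : Nat.gcd 2 (p ^ f - 1) * f ≤ p ^ f :=
    (Nat.mul_le_mul_right f (Nat.gcd_le_left _ (by norm_num))).trans (two_mul_le hp.two_le hf)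
  refine kill_pow b h0 ?_ h2 (E := 134) ?_ (by norm_num) hd ?_
  · refine mul_ne_zero (mul_ne_zero (mul_ne_zero (mul_ne_zero (mul_ne_zero (mul_ne_zero (mul_ne_zero (mul_ne_zero
      (by positivity) ?_) ?_) ?_) ?_) ?_) ?_) ?_) ?_
    · exact (pos_pow_sub h2 (by norm_num)).ne'
    · exact (pos_pow_sub h2 (by norm_num)).ne'
    · exact (pos_pow_sub h2 (by norm_num)).ne'
    · exact (pos_pow_sub h2 (by norm_num)).ne'
    · exact (pos_pow_sub h2 (by norm_num)).ne'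
    · exact (pos_pow_sub h2 (by norm_num)).ne'
    · exact (pos_pow_sub h2 (by norm_num)).ne'
    · exact mul_ne_zero (Nat.gcd_pos_of_pos_left _ (by norm_num)).ne' (by omega)
  · calc _ ≤ (p ^ f) ^ 63 * (p ^ f) ^ 2 * (p ^ f) ^ 6 * (p ^ f) ^ 8 * (p ^ f) ^ 10 * (p ^ f) ^ 12 * (p ^ f) ^ 14 *
            (p ^ f) ^ 18 * (p ^ f) :=
          Nat.mul_le_mul (Nat.mul_le_mul (Nat.mul_le_mul (Nat.mul_le_mul (Nat.mul_le_mul (Nat.mul_le_mul
            (Nat.mul_le_mul (Nat.mul_le_mul le_rfl (pow_sub_le _ _)) (pow_sub_le _ _)) (pow_sub_le _ _))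
            (pow_sub_le _ _)) (pow_sub_le _ _)) (pow_sub_le _ _)) (pow_sub_le _ _)) hg
      _ = (p ^ f) ^ 134 := by ring
  · have h6 := log_two h2
    generalize p ^ f = s at h2 h6
    have h7 : 2 ^ 15 ≤ s ^ 15 := Nat.pow_le_pow_left h2 15
    have h8 : 1 * (2 ^ 15 * s) ≤ (s - 1) * s ^ 16 := by
      refine Nat.mul_le_mul (by omega) ?_
      rw [pow_succ s 15]
      exact Nat.mul_le_mul_right _ h7
    omega

theorem e8_big (b : Big A Γ S P) {K : Type} [Field K] [Fintype K] (e : socle P ≃* chevE8.group K) {p f : ℕ}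
    (hp : p.Prime) (hf : 1 ≤ f) (hK : Fintype.card K = p ^ f) (hF : (p : F) ≠ 0) : False := by
  have := charP_of hp hK
  have hc : Nat.card K = p ^ f := by rw [Nat.card_eq_fintype_card, hK]
  have hd := H433.EP.le_card_of_core (E8.ls K) hF b.core ⟨e⟩
  rw [hc] at hd
  have h0 := e8_dvd b e hp hK
  have h2 : 2 ≤ p ^ f := hp.two_le.trans (Nat.le_self_pow (by omega) p)
  have hg : f ≤ p ^ f := by
    have := two_mul_le hp.two_le hf
    omega
  refine kill_pow b h0 ?_ h2 (E := 249) ?_ (by norm_num) hd ?_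
  · refine mul_ne_zero (mul_ne_zero (mul_ne_zero (mul_ne_zero (mul_ne_zero (mul_ne_zero (mul_ne_zero (mul_ne_zero
      (mul_ne_zero (by positivity) ?_) ?_) ?_) ?_) ?_) ?_) ?_) ?_) ?_
    · exact (pos_pow_sub h2 (by norm_num)).ne'
    · exact (pos_pow_sub h2 (by norm_num)).ne'
    · exact (pos_pow_sub h2 (by norm_num)).ne'
    · exact (pos_pow_sub h2 (by norm_num)).ne'
    · exact (pos_pow_sub h2 (by norm_num)).ne'
    · exact (pos_pow_sub h2 (by norm_num)).ne'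
    · exact (pos_pow_sub h2 (by norm_num)).ne'
    · exact (pos_pow_sub h2 (by norm_num)).ne'
    · omega
  · calc _ ≤ (p ^ f) ^ 120 * (p ^ f) ^ 2 * (p ^ f) ^ 8 * (p ^ f) ^ 12 * (p ^ f) ^ 14 * (p ^ f) ^ 18 * (p ^ f) ^ 20 *
            (p ^ f) ^ 24 * (p ^ f) ^ 30 * (p ^ f) :=
          Nat.mul_le_mul (Nat.mul_le_mul (Nat.mul_le_mul (Nat.mul_le_mul (Nat.mul_le_mul (Nat.mul_le_mul
            (Nat.mul_le_mul (Nat.mul_le_mul (Nat.mul_le_mul le_rfl (pow_sub_le _ _)) (pow_sub_le _ _))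
            (pow_sub_le _ _)) (pow_sub_le _ _)) (pow_sub_le _ _)) (pow_sub_le _ _)) (pow_sub_le _ _))
            (pow_sub_le _ _)) hg
      _ = (p ^ f) ^ 249 := by
        generalize p ^ f = s
        ring
  · have h6 := log_two h2
    generalize p ^ f = s at h2 h6
    have h7 : 2 ^ 27 ≤ s ^ 27 := Nat.pow_le_pow_left h2 27
    have h8 : 1 * (2 ^ 27 * s) ≤ (s - 1) * s ^ 28 := by
      refine Nat.mul_le_mul (by omega) ?_
      rw [pow_succ s 27]
      exact Nat.mul_le_mul_right _ h7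
    generalize (s - 1) * s ^ 28 = d at h8 ⊢
    clear h7
    omega

/-- `²E₆(s)`, `s ≥ 3` -/
theorem twe6_big (b : Big A Γ S P) {K : Type} [Field K] [Fintype K] {p f : ℕ}
    (e : socle P ≃* twistedE6 K (p ^ f)) (hp : p.Prime) (hf : 1 ≤ f) (hK : Fintype.card K = (p ^ f) ^ 2)
    (hF : (p : F) ≠ 0) (h3 : 3 ≤ p ^ f) : False := by
  have hK2 : Fintype.card K = p ^ (2 * f) := by rw [hK, ← pow_mul, mul_comm]
  have := charP_of hp hK2
  have hd := H433.EP.le_card_of_core (TwE6.ls (q := p ^ f) (hp.isPrimePow.pow (by omega)) hK) hF b.core ⟨e⟩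
  have h0 := twe6_dvd b e hp hf hK
  have h2 : 2 ≤ p ^ f := by omega
  have hg : 2 * Nat.gcd 3 (p ^ f + 1) * f ≤ (p ^ f) ^ 3 :=
    (Nat.mul_le_mul_right f (Nat.mul_le_mul_left 2 (Nat.gcd_le_left _ (by norm_num)))).trans
      (six_mul_le hp.two_le hf)
  have hgp : 0 < Nat.gcd 3 (p ^ f + 1) := Nat.gcd_pos_of_pos_left _ (by norm_num)
  have hdv : Nat.gcd 3 (p ^ f + 1) ∣ (p ^ f) ^ 36 * ((p ^ f) ^ 2 - 1) * ((p ^ f) ^ 5 + 1) * ((p ^ f) ^ 6 - 1) *
      ((p ^ f) ^ 8 - 1) * ((p ^ f) ^ 9 + 1) * ((p ^ f) ^ 12 - 1) := by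
    rw [← Cfsg.Agent.S1066.result (K := K) (q := p ^ f) (hp.isPrimePow.pow (by omega)) hK]
    exact Dvd.intro _ rfl
  have hne : (p ^ f) ^ 36 * ((p ^ f) ^ 2 - 1) * ((p ^ f) ^ 5 + 1) * ((p ^ f) ^ 6 - 1) *
      ((p ^ f) ^ 8 - 1) * ((p ^ f) ^ 9 + 1) * ((p ^ f) ^ 12 - 1) ≠ 0 := by
    refine mul_ne_zero (mul_ne_zero (mul_ne_zero (mul_ne_zero (mul_ne_zero (mul_ne_zero (by positivity) ?_) ?_) ?_) ?_)
      ?_) ?_
    · exact (pos_pow_sub h2 (by norm_num)).ne'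
    · omega
    · exact (pos_pow_sub h2 (by norm_num)).ne'
    · exact (pos_pow_sub h2 (by norm_num)).ne'
    · omega
    · exact (pos_pow_sub h2 (by norm_num)).ne'
  refine kill_pow b h0 ?_ h2 (E := 83) ?_ (by norm_num) hd ?_
  · refine mul_ne_zero ?_ (mul_ne_zero (mul_ne_zero two_ne_zero hgp.ne') (by omega))
    exact (Nat.div_pos (Nat.le_of_dvd (Nat.pos_of_ne_zero hne) hdv) hgp).ne'
  · have h5 : ∀ a, 1 ≤ a → (p ^ f) ^ a + 1 ≤ (p ^ f) ^ (a + 1) := by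
      intro a ha
      have h6 : 1 ≤ (p ^ f) ^ a := Nat.one_le_pow _ _ (by omega)
      have h7 : 2 * (p ^ f) ^ a ≤ (p ^ f) ^ (a + 1) := by
        rw [pow_succ' (p ^ f) a]
        exact Nat.mul_le_mul_right _ h2
      omega
    calc _ ≤ (p ^ f) ^ 36 * (p ^ f) ^ 2 * (p ^ f) ^ (5 + 1) * (p ^ f) ^ 6 * (p ^ f) ^ 8 * (p ^ f) ^ (9 + 1) *
            (p ^ f) ^ 12 * (p ^ f) ^ 3 :=
          Nat.mul_le_mul ((Nat.div_le_self _ _).trans (Nat.mul_le_mul (Nat.mul_le_mul (Nat.mul_le_mul (Nat.mul_le_mul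
            (Nat.mul_le_mul (Nat.mul_le_mul le_rfl (pow_sub_le _ _)) (h5 5 (by norm_num))) (pow_sub_le _ _))
            (pow_sub_le _ _)) (h5 9 (by norm_num))) (pow_sub_le _ _))) hg
      _ = (p ^ f) ^ 83 := by ring
  · have h6 := log_three h3
    generalize p ^ f = s at h3 h6
    have h7 : 3 ^ 6 ≤ s ^ 6 := Nat.pow_le_pow_left h3 6
    have h8 : (s - 1) * 3 ^ 6 ≤ (s - 1) * s ^ 6 := Nat.mul_le_mul_left _ h7
    omega

/-- `³D₄(s)`, `s ≥ 3` -/
theorem twd4_big (b : Big A Γ S P) {K : Type} [Field K] [Fintype K] {p f : ℕ}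
    (e : socle P ≃* twistedD4 K (p ^ f)) (hp : p.Prime) (hf : 1 ≤ f) (hK : Fintype.card K = (p ^ f) ^ 3)
    (hF : (p : F) ≠ 0) (h3 : 3 ≤ p ^ f) : False := by
  have hK2 : Fintype.card K = p ^ (3 * f) := by rw [hK, ← pow_mul, mul_comm]
  have := charP_of hp hK2
  have hd := H433.EP.le_card_of_core (TwD4.ls (q := p ^ f) (hp.isPrimePow.pow (by omega)) hK) hF b.core ⟨e⟩
  have h0 := twd4_dvd b e hp hf hK
  have h2 : 2 ≤ p ^ f := by omega
  have hg := three_mul_le hp.two_le hf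
  refine kill_pow b h0 ?_ h2 (E := 31) ?_ (by norm_num) hd ?_
  · refine mul_ne_zero (mul_ne_zero (mul_ne_zero (mul_ne_zero (by positivity) ?_) ?_) ?_) (by omega)
    · exact (pos_pow_sub h2 (by norm_num)).ne'
    · exact (pos_pow_sub h2 (by norm_num)).ne'
    · omega
  · have h5 : (p ^ f) ^ 8 + (p ^ f) ^ 4 + 1 ≤ (p ^ f) ^ 9 := by
      have h6 : 2 ^ 4 ≤ (p ^ f) ^ 4 := Nat.pow_le_pow_left h2 4
      have h7 : (p ^ f) ^ 8 = (p ^ f) ^ 4 * (p ^ f) ^ 4 := by ring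
      have h8 : 2 * (p ^ f) ^ 8 ≤ (p ^ f) ^ 9 := by
        rw [pow_succ' (p ^ f) 8]
        exact Nat.mul_le_mul_right _ h2
      have h9 : 2 ^ 4 * (p ^ f) ^ 4 ≤ (p ^ f) ^ 4 * (p ^ f) ^ 4 := Nat.mul_le_mul_right _ h6
      omega
    calc _ ≤ (p ^ f) ^ 12 * (p ^ f) ^ 2 * (p ^ f) ^ 6 * (p ^ f) ^ 9 * (p ^ f) ^ 2 :=
          Nat.mul_le_mul (Nat.mul_le_mul (Nat.mul_le_mul (Nat.mul_le_mul le_rfl (pow_sub_le _ _)) (pow_sub_le _ _)) h5) hg
      _ = (p ^ f) ^ 31 := by ring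
  · have h6 := log_three h3
    generalize p ^ f = s at h3 h6
    have h7 : 3 ^ 4 ≤ s ^ 4 := Nat.pow_le_pow_left h3 4
    have h8 : (s - 1) * 3 ^ 4 ≤ (s - 1) * s ^ 4 := Nat.mul_le_mul_left _ h7
    omega

/-- `²F₄(s)`, `s ≥ 8` -/
theorem twf4_big (b : Big A Γ S P) {K : Type} [Field K] [Fintype K] {m : ℕ} (hm : 1 ≤ m)
    (hK : Fintype.card K = 2 ^ (2 * m + 1)) (e : socle P ≃* twistedF4 K (2 ^ m)) (hF : ((2 : ℕ) : F) ≠ 0) : False := by
  have hc : Nat.card K = 2 ^ (2 * m + 1) := by rw [Nat.card_eq_fintype_card, hK]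
  have hd := H433.EP.le_card_of_core (TwF4.ls hm hK) hF b.core ⟨e⟩
  rw [hc] at hd
  have h0 := twf4_dvd b hm hK e
  have h8 : 8 ≤ 2 ^ (2 * m + 1) := by
    have : 2 ^ 3 ≤ 2 ^ (2 * m + 1) := Nat.pow_le_pow_right (by norm_num) (by omega)
    omega
  have hg : 2 * m + 1 ≤ 2 ^ (2 * m + 1) := Nat.lt_two_pow_self.le
  generalize 2 ^ (2 * m + 1) = s at h0 hd h8 hg
  have h2 : 2 ≤ s := by omega
  refine kill_pow b h0 ?_ h2 (E := 29) ?_ (by norm_num) hd ?_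
  · refine mul_ne_zero (mul_ne_zero (mul_ne_zero (mul_ne_zero (mul_ne_zero (by positivity) (by omega)) ?_) ?_) ?_) (by omega)
    · omega
    · exact (pos_pow_sub h2 (by norm_num)).ne'
    · omega
  · have h5 : ∀ a, 1 ≤ a → s ^ a + 1 ≤ s ^ (a + 1) := by
      intro a ha
      have h6 : 1 ≤ s ^ a := Nat.one_le_pow _ _ (by omega)
      have h7 : 2 * s ^ a ≤ s ^ (a + 1) := by
        rw [pow_succ' s a]
        exact Nat.mul_le_mul_right _ h2
      omega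
    calc _ ≤ s ^ 12 * s * s ^ (3 + 1) * s ^ 4 * s ^ (6 + 1) * s :=
          Nat.mul_le_mul (Nat.mul_le_mul (Nat.mul_le_mul (Nat.mul_le_mul (Nat.mul_le_mul le_rfl (Nat.sub_le _ _))
            (h5 3 (by norm_num))) (pow_sub_le _ _)) (h5 6 (by norm_num))) hg
      _ = s ^ 29 := by ring
  · have h6 := log_three (s := s) (by omega)
    have h7 : 8 ^ 2 ≤ s ^ 2 := Nat.pow_le_pow_left h8 2
    have h8 : (s - 1) * 8 ^ 2 ≤ (s - 1) * s ^ 2 := Nat.mul_le_mul_left _ h7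
    omega

/-- `Sz(s)`, `s ≥ 128` -/
theorem sz_big (b : Big A Γ S P) {K : Type} [Field K] [Fintype K] {m : ℕ} (hm : 3 ≤ m)
    (hK : Fintype.card K = 2 ^ (2 * m + 1)) (e : socle P ≃* Cfsg.Lie.Sz K (2 ^ (m + 1))) (hF : ((2 : ℕ) : F) ≠ 0) :
    False := by
  have hc : Nat.card K = 2 ^ (2 * m + 1) := by rw [Nat.card_eq_fintype_card, hK]
  have hd := H433.EP.le_card_of_core (LS.sz (by omega) hK) hF b.core ⟨e⟩
  rw [hc] at hd
  have h0 := sz_dvd b (by omega) hK e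
  have h8 : 128 ≤ 2 ^ (2 * m + 1) := by
    have : 2 ^ 7 ≤ 2 ^ (2 * m + 1) := Nat.pow_le_pow_right (by norm_num) (by omega)
    omega
  have hg : 2 * m + 1 ≤ 2 ^ (2 * m + 1) := Nat.lt_two_pow_self.le
  generalize 2 ^ (2 * m + 1) = s at h0 hd h8 hg
  have h2 : 2 ≤ s := by omega
  refine kill_pow b h0 ?_ h2 (E := 7) ?_ (by norm_num) hd ?_
  · exact mul_ne_zero (mul_ne_zero (mul_ne_zero (by positivity) (by omega)) (by omega)) (by omega)
  · have h5 : s ^ 2 + 1 ≤ s ^ 3 := by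
      have h6 : 1 ≤ s ^ 2 := Nat.one_le_pow _ _ (by omega)
      have h7 : 2 * s ^ 2 ≤ s ^ 3 := by
        rw [pow_succ' s 2]
        exact Nat.mul_le_mul_right _ h2
      omega
    calc _ ≤ s ^ 2 * s * s ^ 3 * s := Nat.mul_le_mul (Nat.mul_le_mul (Nat.mul_le_mul le_rfl (Nat.sub_le _ _)) h5) hg
      _ = s ^ 7 := by ring
  · have h6 := log_big h8
    omega

/-- `²G₂(s)`, `s ≥ 243` -/
theorem ree_big (b : Big A Γ S P) {K : Type} [Field K] [Fintype K] {m : ℕ} (hm : 2 ≤ m)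
    (hK : Fintype.card K = 3 ^ (2 * m + 1)) (e : socle P ≃* twistedG2 K (3 ^ m)) (hF : ((3 : ℕ) : F) ≠ 0) :
    False := by
  have hc : Nat.card K = 3 ^ (2 * m + 1) := by rw [Nat.card_eq_fintype_card, hK]
  have hd := H433.EP.le_card_of_core (LS.ree (by omega) hK) hF b.core ⟨e⟩
  rw [hc] at hd
  have h0 := ree_dvd b (by omega) hK e
  have h8 : 243 ≤ 3 ^ (2 * m + 1) := by
    have : 3 ^ 5 ≤ 3 ^ (2 * m + 1) := Nat.pow_le_pow_right (by norm_num) (by omega)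
    omega
  have hg : 2 * m + 1 ≤ 3 ^ (2 * m + 1) := (Nat.lt_pow_self (by norm_num)).le
  generalize 3 ^ (2 * m + 1) = s at h0 hd h8 hg
  have h2 : 2 ≤ s := by omega
  refine kill_pow b h0 ?_ h2 (E := 9) ?_ (by norm_num) hd ?_
  · exact mul_ne_zero (mul_ne_zero (mul_ne_zero (by positivity) (by omega)) (by omega)) (by omega)
  · have h5 : s ^ 3 + 1 ≤ s ^ 4 := by
      have h6 : 1 ≤ s ^ 3 := Nat.one_le_pow _ _ (by omega)
      have h7 : 2 * s ^ 3 ≤ s ^ 4 := by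
        rw [pow_succ' s 3]
        exact Nat.mul_le_mul_right _ h2
      omega
    calc _ ≤ s ^ 3 * s * s ^ 4 * s := Nat.mul_le_mul (Nat.mul_le_mul (Nat.mul_le_mul le_rfl (Nat.sub_le _ _)) h5) hg
      _ = s ^ 9 := by ring
  · have h6 := log_big (s := s) (by omega)
    omega

end Cfsg.Agent.H648.EPV
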