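import Cfsg.Agent.H528.EP.UB3
import Cfsg.Agent.H528.EP.CrossL2
import Cfsg.Agent.H831.EPV.M23

/-!
# S3499-V: killing rows in dimension at least 13 by the order (helper648, task 6105)

* `dvd_out` : `|A|` divides `|L| * |Out L|`;
* `kill_small` : the kill by `UB3` (helper528);
* `kill_list` : the kill by `UB2` (helper59);
* `kill_big` : the crude kill (helper991): `|L| * |Out L| ≤ 2 ^ m`, `3 (m + 2) ≤ 2 d`, `d ≤ n`.
-/

set_option autoImplicit false

namespace Cfsg.Agent.H648.EPV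

open Subgroup Cfsg.Agent.H59.EP Cfsg.Agent.H284 Cfsg.Agent.H419.EP Cfsg.Agent.H528.EP
open scoped MatrixGroups

theorem mulAut_dvd (L : Type*) [Group L] [Finite L] : Nat.card (MulAut L) ∣ Nat.card L * Nat.card (Cfsg.Out L) := by
  rw [Subgroup.card_eq_card_quotient_mul_card_subgroup (Cfsg.Inn L), mul_comm]
  refine mul_dvd_mul_right ?_ _
  exact Subgroup.card_range_dvd (MulAut.conj : L →* MulAut L)

variable {Q : Type} [Group Q] [Finite Q] {A : Subgroup Q} {Γ : Subgroup (MulAut Q)} {ι : Type} [Fintype ι]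
  [DecidableEq ι] {F : Type} [Field F] [Fintype F] {S P : Subgroup (GL ι F)}

theorem dvd_out (b : Big A Γ S P) {L : Type} [Group L] [Finite L] (e : socle P ≃* L) {N : ℕ}
    (hN : Nat.card L * Nat.card (Cfsg.Out L) ∣ N) : Nat.card A ∣ N := by
  obtain ⟨φ, hφ⟩ := (b.hasSoc' e).exists_hom
  exact (Subgroup.card_dvd_of_injective φ hφ).trans ((mulAut_dvd L).trans hN)

theorem no_ab (b : Big A Γ S P) : ∀ K' : Subgroup Q, K' ≤ A → (∀ a ∈ A, ∀ k ∈ K', a * k * a⁻¹ ∈ K') →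
    (∀ a ∈ K', ∀ b ∈ K', a * b = b * a) → K' = ⊥ :=
  fun _ h1 h2 h3 => b.hasSoc.no_abelian b.core.simple (fun h => b.core.nonabelian ⟨⟨h⟩⟩) h1 h2 h3

/-- `q ≤ |F|`, `d ≤ n` -/
theorem ord_ge (b : Big A Γ S P) {q d : ℕ} (hq0 : 0 < q) (hq : q ≤ Fintype.card F) (hd : d ≤ Fintype.card ι) :
    q ^ (d * (d - 1) / 2) ≤ 8 * Nat.card Q := by
  refine le_trans ?_ b.ord
  refine (Nat.pow_le_pow_left hq _).trans (Nat.pow_le_pow_right (hq0.trans_le hq) ?_)
  exact Nat.div_le_div_right (Nat.mul_le_mul hd (by omega))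

/-- **the kill by `UB3`** -/
theorem kill_small (hg : TwoGen.{0}) (b : Big A Γ S P) {N : ℕ} (hA : Nat.card A ∣ N) (hN0 : N ≠ 0)
    (hN : N < 60 ^ 60) {G : ℕ} (hG : galSum N ≤ G) {q d : ℕ} (hq0 : 0 < q) (hq : q ≤ Fintype.card F)
    (hd : d ≤ Fintype.card ι) (hlt : 8 * ubQ N G < q ^ (d * (d - 1) / 2)) : False := by
  have h1 := ord_ge b hq0 hq hd
  have h2 := EPT.card_le_gen b.simple b.ept hg (no_ab b) hN0 hA hN hG
  omega

/-- the valuations are checked by the kernel -/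
def chkN (B : ℕ) (l : List (ℕ × ℕ)) : Bool :=
  l.all fun x => Nat.blt 1 x.1 && Nat.blt x.1 B

/-- the bound for `galSum N`, `N = ∏ p ^ a` -/
theorem galSum_list {N : ℕ} (l : List (ℕ × ℕ)) (h1 : ∀ x ∈ l, x.1.Prime) (h2 : (l.map Prod.fst).Nodup)
    (hN : N = (l.map fun x => x.1 ^ x.2).prod) : galSum N ≤ (l.map fun x => gal x.1 x.2).sum := by
  classical
  have hne : N ≠ 0 := by
    rw [hN]
    intro h0
    rw [List.prod_eq_zero_iff] at h0
    obtain ⟨x, hx, h⟩ := List.mem_map.1 h0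
    exact pow_ne_zero _ (h1 x hx).ne_zero h
  -- the valuations
  have hval : ∀ x ∈ l, N.factorization x.1 = x.2 := by
    intro x hx
    rw [hN]
    clear hN hne
    induction l with
    | nil => exact absurd hx (by simp)
    | cons y l ih =>
      rw [List.map_cons, List.prod_cons]
      have hl1 : ∀ x ∈ l, x.1.Prime := fun x hx => h1 x (List.mem_cons_of_mem _ hx)
      have hy := h1 y List.mem_cons_self
      have hprod : (l.map fun x => x.1 ^ x.2).prod ≠ 0 := by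
        intro h0
        rw [List.prod_eq_zero_iff] at h0
        obtain ⟨z, hz, h⟩ := List.mem_map.1 h0
        exact pow_ne_zero _ (hl1 z hz).ne_zero h
      rw [Nat.factorization_mul (pow_ne_zero _ hy.ne_zero) hprod, Finsupp.add_apply]
      rw [List.map_cons, List.nodup_cons] at h2
      have hnot : ∀ p : ℕ, p.Prime → p ∉ l.map Prod.fst →
          (l.map fun x : ℕ × ℕ => x.1 ^ x.2).prod.factorization p = 0 := by
        intro p hp hpl
        apply Nat.factorization_eq_zero_of_not_dvd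
        intro hd
        rw [Prime.dvd_prod_iff (Nat.prime_iff.1 hp)] at hd
        obtain ⟨z, hz, h⟩ := hd
        obtain ⟨w, hw, rfl⟩ := List.mem_map.1 hz
        have h3 : p = w.1 := (Nat.prime_dvd_prime_iff_eq hp (hl1 w hw)).1 (hp.dvd_of_dvd_pow h)
        exact hpl (List.mem_map.2 ⟨w, hw, h3.symm⟩)
      rcases List.mem_cons.1 hx with rfl | hx'
      · rw [hnot x.1 hy h2.1, add_zero, Nat.Prime.factorization_pow hy, Finsupp.single_eq_same]
      · have hne' : x.1 ≠ y.1 := by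
          intro h3
          exact h2.1 (List.mem_map.2 ⟨x, hx', h3⟩)
        rw [ih hl1 h2.2 hx', Nat.Prime.factorization_pow hy, Finsupp.single_eq_of_ne hne', zero_add]
  have hsub : N.primeFactors ⊆ (l.map Prod.fst).toFinset := by
    intro p hp
    have hpp := Nat.prime_of_mem_primeFactors hp
    have hd := Nat.dvd_of_mem_primeFactors hp
    rw [hN, Prime.dvd_prod_iff (Nat.prime_iff.1 hpp)] at hd
    obtain ⟨z, hz, h⟩ := hd
    obtain ⟨w, hw, rfl⟩ := List.mem_map.1 hz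
    have h3 : p = w.1 := (Nat.prime_dvd_prime_iff_eq hpp (h1 w hw)).1 (hpp.dvd_of_dvd_pow h)
    rw [List.mem_toFinset]
    exact List.mem_map.2 ⟨w, hw, h3.symm⟩
  unfold galSum
  refine (Finset.sum_le_sum_of_subset hsub).trans (le_of_eq ?_)
  rw [List.sum_toFinset _ h2, List.map_map]
  congr 1
  apply List.map_congr_left
  intro x hx
  show gal x.1 (N.factorization x.1) = _
  rw [hval x hx]

/-- **the kill by `UB3`, `N` given by its factorisation** -/
theorem kill_list (hg : TwoGen.{0}) (b : Big A Γ S P) {N : ℕ} (hA : Nat.card A ∣ N) (l : List (ℕ × ℕ))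
    (h1 : ∀ x ∈ l, x.1.Prime) (h2 : (l.map Prod.fst).Nodup) (hNl : N = (l.map fun x => x.1 ^ x.2).prod)
    (hN : N < 60 ^ 60) {q d : ℕ} (hq0 : 0 < q) (hq : q ≤ Fintype.card F)
    (hd : d ≤ Fintype.card ι) (hlt : 8 * ubQ N (l.map fun x => gal x.1 x.2).sum < q ^ (d * (d - 1) / 2)) : False := by
  refine kill_small hg b hA ?_ hN (galSum_list l h1 h2 hNl) hq0 hq hd hlt
  rw [hNl]
  intro h0
  rw [List.prod_eq_zero_iff] at h0
  obtain ⟨x, hx, h⟩ := List.mem_map.1 h0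
  exact pow_ne_zero _ (h1 x hx).ne_zero h

/-- **the crude kill** -/
theorem kill_big (b : Big A Γ S P) {N : ℕ} (hA : Nat.card A ∣ N) (hN0 : N ≠ 0) {m d : ℕ} (hm : 4 ≤ m)
    (hNm : N ≤ 2 ^ m) (hd : d ≤ Fintype.card ι) (hmd : 3 * (m + 2) ≤ 2 * d) : False := by
  have h1 := b.ord_two hd
  have h2 := card_le_crude b.ept hN0 hA hNm
  have h3 : m ^ 2 * 2 ^ (m * (m + 2)) ≤ 2 ^ (2 * m + m * (m + 2)) := by
    rw [pow_add, mul_comm 2 m, pow_mul 2 m 2]
    exact Nat.mul_le_mul_right _ (Nat.pow_le_pow_left (Nat.lt_two_pow_self).le 2)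
  have h4 : 8 * 2 ^ (2 * m + m * (m + 2)) = 2 ^ (3 + 2 * m + m * (m + 2)) := by
    rw [show 3 + 2 * m + m * (m + 2) = 3 + (2 * m + m * (m + 2)) by ring, pow_add 2 3]
    norm_num
  have h5 : 2 ^ (d * (d - 1) / 2) ≤ 2 ^ (3 + 2 * m + m * (m + 2)) := by
    rw [← h4]
    exact h1.trans (Nat.mul_le_mul_left 8 (h2.trans h3))
  have h6 := (Nat.pow_le_pow_iff_right (by norm_num)).1 h5
  have h7 : 3 + 2 * m + m * (m + 2) + 1 ≤ d * (d - 1) / 2 := by
    rw [Nat.le_div_iff_mul_le (by norm_num)]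
    obtain ⟨k, rfl⟩ : ∃ k, m = k + 4 := ⟨m - 4, by omega⟩
    have h8 : 3 * k + 18 ≤ 2 * d := by omega
    obtain ⟨j, rfl⟩ : ∃ j, d = j + 1 := ⟨d - 1, by omega⟩
    rw [Nat.add_sub_cancel]
    nlinarith
  omega

end Cfsg.Agent.H648.EPV
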